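import Cfsg.Agent.RootAmalgam.Roots

/-!
# Root data from rank two: tori

`RD.Tor c S`: `S` is a subgroup of the common normaliser `c.T` containing all quotients of `μ`-elements and
normalised by the `μ`-elements.  Examples: `c.T`, `c.T ⊓ L` for a subgroup `L` containing all `X i`, `Xn i`,
and the smallest one, `c.T0` (generated by the quotients of `μ`-elements); `T0` has order prime to `p` if this
is so in all rank one groups `⟨X i, Xn i⟩`.  The braid relations hold modulo every torus: `Tor.braid`.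
-/

set_option autoImplicit false
set_option linter.unusedSectionVars false

namespace Cfsg.Agent.RootAmalgam

universe u

/-- The braid relation modulo a normal subgroup. -/
theorem pow_mem_of_braid {N : Type*} [Group N] (S : Subgroup N) [S.Normal] {a b : N} (ha : a * a ∈ S)
    (hb : b * b ∈ S) {r : ℕ}
    (h : (if Even r then b else a)⁻¹ * (ralt a b r * a * (ralt a b r)⁻¹) ∈ S) :
    (a * b) ^ (r + 1) ∈ S := by
  rw [← QuotientGroup.eq_one_iff] at ha hb h ⊢
  have hf : ∀ x y : N, ∀ q : ℕ, ((ralt x y q : N) : N ⧸ S) = ralt (x : N ⧸ S) (y : N ⧸ S) q :=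
    fun x y q => map_ralt (QuotientGroup.mk' S) x y q
  rw [QuotientGroup.mk_mul] at ha hb
  rw [QuotientGroup.mk_pow, QuotientGroup.mk_mul, mul_pow_eq _ _ ha hb, inv_mul_eq_one, ralt_succ,
    ralt_succ']
  rw [QuotientGroup.mk_mul, QuotientGroup.mk_inv, inv_mul_eq_one, QuotientGroup.mk_mul,
    QuotientGroup.mk_mul, QuotientGroup.mk_inv, hf] at h
  by_cases he : Even r
  · rw [if_pos he] at h ⊢
    have h2 : (b : N ⧸ S) * ralt (a : N ⧸ S) b r = ralt (a : N ⧸ S) b r * (a : N ⧸ S) := by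
      conv_lhs =>
        enter [1]
        rw [h]
      group
    exact h2.symm
  · rw [if_neg he] at h ⊢
    have h2 : (a : N ⧸ S) * ralt (a : N ⧸ S) b r = ralt (a : N ⧸ S) b r * (a : N ⧸ S) := by
      conv_lhs =>
        enter [1]
        rw [h]
      group
    exact h2.symm

/-- order of a product `HN` with `H` normalizing `N` -/
theorem card_sup_dvd {G : Type*} [Group G] (H N : Subgroup G)
    (h : H ≤ Subgroup.normalizer (N : Set G)) :
    Nat.card ↥(H ⊔ N) ∣ Nat.card H * Nat.card N := by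
  let _ := Subgroup.normal_subgroupOf_of_le_normalizer h
  let _ := Subgroup.normal_subgroupOf_sup_of_le_normalizer h
  have e := (QuotientGroup.quotientInfEquivProdNormalizerQuotient H N h).toEquiv
  have h1 : (N.subgroupOf H).index = (N.subgroupOf (H ⊔ N)).index := Nat.card_congr e
  have h2 := Subgroup.card_mul_index (N.subgroupOf (H ⊔ N))
  rw [Nat.card_congr (Subgroup.subgroupOfEquivOfLe (le_sup_right : N ≤ H ⊔ N)).toEquiv, ← h1] at h2
  rw [← h2, mul_comm]
  exact Nat.mul_dvd_mul (Subgroup.index_dvd_card _) dvd_rfl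

namespace RD

variable {Y : Type u} [Group Y] {I : Type*} {M : CoxeterMatrix I} {c : RD M Y} [Nontrivial I]

/-- Tori. -/
structure Tor (c : RD M Y) (S : Subgroup Y) : Prop where
  le : S ≤ c.T
  mu : ∀ i n n', c.IsMu i n → c.IsMu i n' → n⁻¹ * n' ∈ S
  conj : ∀ i n, c.IsMu i n → ∀ t ∈ S, n * t * n⁻¹ ∈ S

namespace Tor

variable {S : Subgroup Y} (hS : c.Tor S)

include hS

theorem conj' {i : I} {n : Y} (hn : c.IsMu i n) {t : Y} (ht : t ∈ S) : n⁻¹ * t * n ∈ S := by
  have := hS.conj i _ hn.inv t ht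
  rwa [inv_inv] at this

theorem mul_inv {i : I} {n n' : Y} (hn : c.IsMu i n) (hn' : c.IsMu i n') : n * n'⁻¹ ∈ S := by
  have := hS.mu i _ _ hn.inv hn'.inv
  rwa [inv_inv] at this

theorem sq_mem {i : I} {n : Y} (hn : c.IsMu i n) : n * n ∈ S := by
  have := hS.mu i _ _ hn.inv hn
  rwa [inv_inv] at this

theorem norm {i : I} {n : Y} (hn : c.IsMu i n) : n ∈ Subgroup.normalizer (S : Set Y) := by
  rw [Subgroup.mem_normalizer_iff]
  intro y
  refine ⟨fun hy => hS.conj i n hn y hy, fun hy => ?_⟩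
  have := hS.conj' hn hy
  have e : n⁻¹ * (n * y * n⁻¹) * n = y := by group
  rwa [e] at this

/-- The braid relation modulo a torus. -/
theorem braid {i j : I} (hM : M i j ≠ 0) {p q : Y} (hp : c.IsMu i p) (hq : c.IsMu j q)
    (hij : i ≠ j) : (p * q) ^ M i j ∈ S := by
  obtain ⟨r, hr⟩ := Nat.exists_eq_succ_of_ne_zero hM
  rw [Nat.succ_eq_add_one] at hr
  have hb := braid_aux hij hp hq hr
  have hw : ∀ x y : ↥(Subgroup.normalizer (S : Set Y)), ∀ q : ℕ,
      ((ralt x y q : ↥(Subgroup.normalizer (S : Set Y))) : Y) = ralt (x : Y) (y : Y) q :=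
    fun x y q => map_ralt (Subgroup.normalizer (S : Set Y)).subtype x y q
  have : (S.subgroupOf (Subgroup.normalizer (S : Set Y))).Normal := Subgroup.normal_in_normalizer
  have key := pow_mem_of_braid (S.subgroupOf (Subgroup.normalizer (S : Set Y)))
    (a := ⟨p, hS.norm hp⟩) (b := ⟨q, hS.norm hq⟩) (r := r)
    (by rw [Subgroup.mem_subgroupOf]; exact hS.sq_mem hp)
    (by rw [Subgroup.mem_subgroupOf]; exact hS.sq_mem hq) ?_
  · rw [hr]
    rw [Subgroup.mem_subgroupOf] at key
    exact key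
  · rw [Subgroup.mem_subgroupOf]
    by_cases he : Even r
    · rw [if_pos he] at hb ⊢
      simp only [Subgroup.coe_mul, Subgroup.coe_inv, hw]
      exact hS.mu j _ _ hq hb
    · rw [if_neg he] at hb ⊢
      simp only [Subgroup.coe_mul, Subgroup.coe_inv, hw]
      exact hS.mu i _ _ hp hb

end Tor

theorem T_tor : c.Tor c.T :=
  ⟨le_rfl, fun _ _ _ h h' => h.inv_mul_mem h', fun _ _ h _ ht => h.conj_mem ht⟩

theorem inf_tor {L : Subgroup Y} (hL : ∀ i, c.X i ≤ L) (hL' : ∀ i, c.Xn i ≤ L) :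
    c.Tor (c.T ⊓ L) := by
  have hn : ∀ i n, c.IsMu i n → n ∈ L := fun i n h => (sup_le (hL i) (hL' i)) h.mem
  refine ⟨inf_le_left, fun i n n' h h' => ?_, fun i n h t ht => ?_⟩
  · rw [Subgroup.mem_inf]
    exact ⟨h.inv_mul_mem h', mul_mem (inv_mem (hn i n h)) (hn i n' h')⟩
  · rw [Subgroup.mem_inf] at ht ⊢
    exact ⟨h.conj_mem ht.1, mul_mem (mul_mem (hn i n h) ht.2) (inv_mem (hn i n h))⟩

variable (c) in
/-- The smallest torus. -/
def T0 : Subgroup Y :=
  Subgroup.closure {y | ∃ i n n', c.IsMu i n ∧ c.IsMu i n' ∧ y = n⁻¹ * n'}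

variable (c) in
/-- The part of the smallest torus in the rank one group of `i`. -/
def T1 (i : I) : Subgroup Y :=
  Subgroup.closure {y | ∃ n n', c.IsMu i n ∧ c.IsMu i n' ∧ y = n⁻¹ * n'}

theorem T0_eq : c.T0 = ⨆ i, c.T1 i := by
  apply le_antisymm
  · rw [T0, Subgroup.closure_le]
    rintro y ⟨i, n, n', h, h', rfl⟩
    exact (le_iSup c.T1 i) (Subgroup.subset_closure ⟨n, n', h, h', rfl⟩)
  · refine iSup_le fun i => ?_
    rw [T1, Subgroup.closure_le]
    rintro y ⟨n, n', h, h', rfl⟩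
    exact Subgroup.subset_closure ⟨i, n, n', h, h', rfl⟩

theorem T1_le (i : I) : c.T1 i ≤ c.T ⊓ (c.X i ⊔ c.Xn i) := by
  rw [T1, Subgroup.closure_le]
  rintro y ⟨n, n', h, h', rfl⟩
  rw [SetLike.mem_coe, Subgroup.mem_inf]
  exact ⟨h.inv_mul_mem h', mul_mem (inv_mem h.mem) h'.mem⟩

theorem T1_le_T0 (i : I) : c.T1 i ≤ c.T0 := by
  rw [T0_eq]
  exact le_iSup c.T1 i

theorem T0_le : c.T0 ≤ c.T := by
  rw [T0_eq]
  exact iSup_le fun i => (T1_le i).trans inf_le_left

/-- The torus normalises the rank one tori. -/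
theorem conj_mem_T1 {t : Y} (ht : t ∈ c.T) (i : I) {y : Y} (hy : y ∈ c.T1 i) :
    t * y * t⁻¹ ∈ c.T1 i := by
  have h1 : c.T1 i ≤ (c.T1 i).comap (MulAut.conj t).toMonoidHom := by
    conv_lhs => rw [T1]
    rw [Subgroup.closure_le]
    rintro y ⟨n, n', h, h', rfl⟩
    show t * (n⁻¹ * n') * t⁻¹ ∈ c.T1 i
    exact Subgroup.subset_closure ⟨t * n * t⁻¹, t * n' * t⁻¹, h.conj ht, h'.conj ht, by group⟩
  exact h1 hy

theorem T0_tor : c.Tor c.T0 := by
  refine ⟨T0_le, fun i n n' h h' => Subgroup.subset_closure ⟨i, n, n', h, h', rfl⟩, ?_⟩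
  intro i n h t ht
  have htT := T0_le ht
  have h1 : n * (t * n * t⁻¹)⁻¹ ∈ c.T0 := by
    refine Subgroup.subset_closure ⟨i, n⁻¹, (t * n * t⁻¹)⁻¹, h.inv, (h.conj htT).inv, ?_⟩
    rw [inv_inv]
  have e : n * t * n⁻¹ = n * (t * n * t⁻¹)⁻¹ * t := by group
  rw [e]
  exact mul_mem h1 ht

/-- A group generated by finitely many subgroups of order prime to `p` which it normalises has order prime
to `p`. -/
theorem coprime_iSup {G : Type*} [Group G] {ι : Type*} [Finite ι] {p : ℕ}
    (A : ι → Subgroup G) (hA : ∀ i, (Nat.card (A i)).Coprime p)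
    (hn : ∀ i j, A i ≤ Subgroup.normalizer (A j : Set G)) : (Nat.card ↥(⨆ i, A i)).Coprime p := by
  classical
  have := Fintype.ofFinite ι
  have key : ∀ s : Finset ι, (Nat.card ↥(⨆ i ∈ s, A i)).Coprime p := by
    intro s
    induction s using Finset.induction_on with
    | empty => simp
    | insert i s hi ih =>
      rw [Finset.iSup_insert]
      have h1 : A i ≤ Subgroup.normalizer ((⨆ j ∈ s, A j : Subgroup G) : Set G) := by
        intro t ht
        have h2 : ∀ t ∈ A i, (⨆ j ∈ s, A j) ≤ (⨆ j ∈ s, A j).comap (MulAut.conj t).toMonoidHom := by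
          intro t ht
          refine iSup₂_le fun j hj y hy => ?_
          rw [Subgroup.mem_comap]
          simp only [MulEquiv.coe_toMonoidHom, MulAut.conj_apply]
          have h3 := (Subgroup.mem_normalizer_iff.1 (hn i j ht) y).1 hy
          exact (le_iSup₂_of_le j hj le_rfl : A j ≤ _) h3
        rw [Subgroup.mem_normalizer_iff]
        intro y
        refine ⟨fun hy => by simpa using h2 t ht hy, fun hy => ?_⟩
        have h3 := h2 t⁻¹ (inv_mem ht) hy
        rw [Subgroup.mem_comap] at h3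
        simp only [MulEquiv.coe_toMonoidHom, MulAut.conj_apply] at h3
        have e : t⁻¹ * (t * y * t⁻¹) * t⁻¹⁻¹ = y := by group
        rwa [e] at h3
      have h3 : Nat.card ↥(A i ⊔ ⨆ j ∈ s, A j) ∣ Nat.card (A i) * Nat.card ↥(⨆ j ∈ s, A j) :=
        card_sup_dvd _ _ h1
      exact Nat.Coprime.coprime_dvd_left h3 (Nat.Coprime.mul_left (hA i) ih)
  have h1 := key Finset.univ
  have h2 : (⨆ i ∈ (Finset.univ : Finset ι), A i) = ⨆ i, A i := by simp
  rwa [h2] at h1

theorem T1_le_normalizer {t : Y} (ht : t ∈ c.T) (i : I) :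
    t ∈ Subgroup.normalizer (c.T1 i : Set Y) := by
  rw [Subgroup.mem_normalizer_iff]
  intro y
  refine ⟨fun hy => conj_mem_T1 ht i hy, fun hy => ?_⟩
  have := conj_mem_T1 (inv_mem ht) i hy
  have e : t⁻¹ * (t * y * t⁻¹) * t⁻¹⁻¹ = y := by group
  rwa [e] at this

/-- The smallest torus has order prime to `p` if this holds in all rank one groups. -/
theorem T0_coprime [Finite I] {p : ℕ} (h : ∀ i, (Nat.card (c.T1 i)).Coprime p) :
    (Nat.card c.T0).Coprime p := by
  rw [T0_eq]
  exact coprime_iSup c.T1 h fun i j t ht =>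
    T1_le_normalizer (((T1_le i).trans inf_le_left) ht) j

/-- The smallest torus has order prime to `p` if this holds for the common normaliser of `X i`, `Xn i` in
`⟨X i, Xn i⟩`. -/
theorem T0_coprime' [Finite I] [Finite Y] {p : ℕ}
    (h : ∀ i, (Nat.card ↥((c.X i ⊔ c.Xn i) ⊓ Subgroup.normalizer (c.X i : Set Y) ⊓
      Subgroup.normalizer (c.Xn i : Set Y))).Coprime p) :
    (Nat.card c.T0).Coprime p := by
  refine T0_coprime fun i => ?_
  refine Nat.Coprime.coprime_dvd_left (Subgroup.card_dvd_of_le ?_) (h i)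
  intro t ht
  have h1 := T1_le i ht
  rw [Subgroup.mem_inf] at h1
  obtain ⟨h1, h2⟩ := h1
  have key : ∀ {A : Subgroup Y}, Onto t A A → t ∈ Subgroup.normalizer (A : Set Y) := by
    intro A hA
    rw [Subgroup.mem_normalizer_iff]
    exact fun y => (hA y).symm
  exact ⟨⟨h2, key (h1 i).1⟩, key (h1 i).2⟩

end RD

end Cfsg.Agent.RootAmalgam
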