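import Cfsg.Agent.RootAmalgam.Gamma
import Cfsg.Agent.RootAmalgam.Torus
import Cfsg.Agent.RootAmalgam.Pair
import Cfsg.Agent.Nodes.BN
import Cfsg.Agent.Nodes.BNOf

/-!
# Root data from rank two: the node system `Nodes.Sys` and the root group data `Nodes.BNOf.RGD`

Input: `RD M Y` (pair data only), output: `RD.toSys` (helper98's engine), `RD.good`, `RD.toRGD`.
-/

set_option autoImplicit false
set_option linter.unusedSectionVars false
set_option maxHeartbeats 400000

namespace Cfsg.Agent.RootAmalgam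

open CoxeterSystem Cfsg.Agent.ChevalleyStructure.CoxeterGeom Cfsg.Agent.Tits.Roots
open Cfsg.Agent.Nodes
open scoped commutatorElement

universe u

namespace RD

variable {Y : Type u} [Group Y] {I W : Type*} [Fintype I] [DecidableEq I] [Nontrivial I] [Group W]
  {M : CoxeterMatrix I} (c : RD M Y) (cs : CoxeterSystem M W) {A : I → I → ℤ} (h : IsCartan M A)
  [Finite W]

/-- The root group of the root `x`. -/
def XX (x : I → ℤ) : Subgroup Y :=
  ⨆ (w : W) (i : I) (y : Y) (_ : rep cs h w (sr i) = x ∧ c.Real cs w y),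
    (c.X i).map (MulAut.conj y).toMonoidHom

variable {c cs h}

/-- Root groups are well defined. -/
theorem onto_of_rep {u : W} {i k : I} (hu : rep cs h u (sr i) = sr k) {y : Y} (hy : c.Real cs u y) :
    Onto y (c.X i) (c.X k) := by
  refine wd (simple_conj cs h hu) ?_ hy
  have h1 : cs.length u < cs.length (u * cs.simple i) := by
    rw [lt_iff' cs h]
    show 0 ≤ rep cs h u (sr i)
    rw [hu]
    exact sr_nonneg k
  have h3 : ¬ Cfsg.Agent.Tits.Exchange.nn cs u (cs.simple i) = 1 := by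
    rw [Cfsg.Agent.Tits.Exchange.nn_eq_one_iff cs (cs.isReflection_simple i)]
    omega
  have : ∀ a : ZMod 2, a ≠ 1 → a = 0 := by decide
  exact this _ h3

theorem mem_XX {w : W} {y : Y} (hy : c.Real cs w y) (i : I) (a : Y) :
    a ∈ c.XX cs h (rep cs h w (sr i)) ↔ y⁻¹ * a * y ∈ c.X i := by
  have key : ∀ (w' : W) (i' : I) (y' : Y), rep cs h w' (sr i') = rep cs h w (sr i) →
      c.Real cs w' y' → (c.X i').map (MulAut.conj y').toMonoidHom =
        (c.X i).map (MulAut.conj y).toMonoidHom := by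
    intro w' i' y' h1 h2
    have h3 : rep cs h (w⁻¹ * w') (sr i') = sr i := by rw [rep_mul_apply, h1, rep_inv_apply]
    have h4 := onto_of_rep (c := c) h3 (hy.inv.mul h2)
    ext b
    simp only [Subgroup.mem_map, MulEquiv.coe_toMonoidHom, MulAut.conj_apply]
    constructor
    · rintro ⟨u, hu, rfl⟩
      exact ⟨_, h4.mem hu, by group⟩
    · rintro ⟨u, hu, rfl⟩
      exact ⟨_, h4.mem_inv hu, by group⟩
  have hX : c.XX cs h (rep cs h w (sr i)) = (c.X i).map (MulAut.conj y).toMonoidHom := by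
    apply le_antisymm
    · refine iSup_le fun w' => iSup_le fun i' => iSup_le fun y' => iSup_le fun h1 => ?_
      exact (key w' i' y' h1.1 h1.2).le
    · exact le_iSup_of_le w (le_iSup_of_le i (le_iSup_of_le y (le_iSup_of_le ⟨rfl, hy⟩ le_rfl)))
  rw [hX]
  simp only [Subgroup.mem_map, MulEquiv.coe_toMonoidHom, MulAut.conj_apply]
  constructor
  · rintro ⟨u, hu, rfl⟩
    have : y⁻¹ * (y * u * y⁻¹) * y = u := by group
    rw [this]; exact hu
  · intro hu
    exact ⟨_, hu, by group⟩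

theorem XX_onto {w : W} {y : Y} (hy : c.Real cs w y) {x : I → ℤ} (hx : IsRoot cs h x) :
    Onto y (c.XX cs h x) (c.XX cs h (rep cs h w x)) := by
  intro a
  obtain ⟨v, i, rfl⟩ := hx
  obtain ⟨z, hz⟩ := c.exists_real (cs := cs) v
  rw [← rep_mul_apply, mem_XX (hy.mul hz), mem_XX hz]
  have : (y * z)⁻¹ * (y * a * y⁻¹) * (y * z) = z⁻¹ * a * z := by group
  rw [this]

theorem XX_sr (i : I) : c.XX cs h (sr i) = c.X i := by
  ext a
  have h1 := mem_XX (c := c) (cs := cs) (h := h) (real_one_iff.2 (one_mem _)) i a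
  rw [map_one, Module.End.one_apply] at h1
  simpa using h1

theorem XX_neg_sr (i : I) : c.XX cs h (-sr i) = c.Xn i := by
  have h1 := XX_onto (c := c) (h := h) (real_n (cs := cs) i) (isRoot_sr cs h i)
  rw [rep_simple_sr, XX_sr] at h1
  exact h1.eq (c.n_mu i).swap.pos

/-- The positions in the rank two families are the roots. -/
theorem XX_gam {k l : I} (hkl : k ≠ l) (r : ℕ) :
    c.XX cs h (gam cs h r k l) = c.Z k l (1 + r) := by
  have hm := ralt_maps hkl (c.n_mu k) (c.n_mu l) r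
  rw [gam_eq]
  by_cases he : Even r
  · rw [if_pos he]
    simp only [if_pos he] at hm
    have h1 := XX_onto (c := c) (h := h) (real_ralt (cs := cs) k l r) (isRoot_sr cs h k)
    rw [XX_sr, ← c.z_one k l hkl] at h1
    exact h1.eq (hm.1.onto rfl)
  · rw [if_neg he]
    simp only [if_neg he] at hm
    have h1 := XX_onto (c := c) (h := h) (real_ralt (cs := cs) l k r) (isRoot_sr cs h l)
    rw [XX_sr, ← c.z_m k l hkl] at h1
    exact h1.eq (hm.2.onto (by ring))

/-- The window is contained in the cone. -/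
theorem window_le {k l : I} (hkl : k ≠ l) {i j : ℕ} (hj : j < M k l) :
    (⨆ r ∈ Set.Ioo (1 + (i : ℤ)) (1 + j), c.Z k l r) ≤
      ⨆ z ∈ Cone cs h k l (gam cs h i k l) (gam cs h j k l), c.XX cs h z := by
  refine iSup₂_le fun q hq => ?_
  obtain ⟨r, hr⟩ : ∃ r : ℕ, q = 1 + r := by
    have h1 := hq.1
    exact ⟨(q - 1).toNat, by omega⟩
  have h1 := hq.1
  have h2 := hq.2
  rw [hr] at h1 h2 ⊢
  refine le_iSup₂_of_le (gam cs h r k l) ⟨gam_rootJ cs h r k l,
    gam_btw cs h hkl (by omega) (by omega) hj⟩ ?_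
  rw [XX_gam hkl]

theorem Cone_symm {k l : I} {x y z : I → ℤ} (hz : z ∈ Cone cs h k l x y) : z ∈ Cone cs h k l y x := by
  obtain ⟨h1, e, a, b, he, ha, hb, h2⟩ := hz
  exact ⟨h1, e, b, a, he, hb, ha, by rw [h2, add_comm]⟩

theorem Cone_swap {k l : I} {x y z : I → ℤ} (hz : z ∈ Cone cs h k l x y) : z ∈ Cone cs h l k x y :=
  ⟨hz.1.symm cs h, hz.2⟩

/-- The local commutator relations, first form. -/
theorem comm_left {k l : I} (hkl : k ≠ l) {x : I → ℤ} (hx : RootJ cs h k l x) (h0 : 0 ≤ x)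
    (hne : x ≠ sr k) {a b : Y} (ha : a ∈ c.X k) (hb : b ∈ c.XX cs h x) :
    ⁅a, b⁆ ∈ ⨆ z ∈ Cone cs h k l (sr k) x, c.XX cs h z := by
  obtain ⟨r, hr, hxr⟩ := exists_gam cs h hx h0
  rcases hxr with rfl | rfl
  · rw [XX_gam hkl] at hb
    have hr0 : r ≠ 0 := by
      rintro rfl
      exact hne rfl
    have h2 := window_le (c := c) (cs := cs) (h := h) hkl (i := 0) (j := r) hr
    have e : (1 : ℤ) + ((0 : ℕ) : ℤ) = 1 := by norm_num
    rw [e, gam_zero] at h2
    have hr1 : (1 : ℤ) < 1 + (r : ℤ) := by omega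
    have hr2 : 1 + (r : ℤ) ≤ (M k l : ℤ) := by
      generalize M k l = m at hr
      omega
    exact h2 (c.comm k l hkl 1 (1 + r) le_rfl hr1 hr2 a (by rw [c.z_one k l hkl]; exact ha) b hb)
  · have hlk := hkl.symm
    have hM : M l k = M k l := M.symmetric l k
    rw [XX_gam hlk] at hb
    obtain ⟨m, hm⟩ := Nat.exists_eq_succ_of_ne_zero (M_ne_zero cs l k)
    rw [Nat.succ_eq_add_one] at hm
    have hlast := gam_last cs h hlk hm
    have hrm : r ≠ m := by
      rintro rfl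
      exact hne hlast
    have h1 : c.Z l k (1 + (m : ℤ)) = c.X k := by
      rw [← c.z_m l k hlk, hm]
      congr 1
      push_cast; ring
    have h2 := c.comm l k hlk (1 + r) (1 + m) (by omega) (by omega) (by omega) b hb a
      (by rw [h1]; exact ha)
    have h3 := window_le (c := c) (cs := cs) (h := h) hlk (i := r) (j := m) (by omega) h2
    rw [hlast] at h3
    rw [← commutatorElement_inv]
    refine inv_mem ?_
    refine (iSup₂_le fun z hz => ?_ :
      (⨆ z ∈ Cone cs h l k (gam cs h r l k) (sr k), c.XX cs h z) ≤ _) h3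
    exact le_iSup₂_of_le z (Cone_swap (Cone_symm hz)) le_rfl

variable (c cs h)

/-- The node system of a root datum, for a torus `S`. -/
noncomputable def toSys {S : Subgroup Y} (hS : c.Tor S) : Sys cs h Y where
  U := c.X
  n := c.n
  H := S
  nH i t := by
    refine ⟨fun ht => ?_, fun ht => hS.conj i _ (c.n_mu i) t ht⟩
    have := hS.conj' (c.n_mu i) ht
    have e : (c.n i)⁻¹ * (c.n i * t * (c.n i)⁻¹) * c.n i = t := by group
    rwa [e] at this
  braid i j := by
    by_cases hij : i = j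
    · subst hij
      rw [M.diagonal, pow_one]
      exact hS.sq_mem (c.n_mu i)
    · exact hS.braid (M_ne_zero cs i j) (c.n_mu i) (c.n_mu j) hij
  HU i t ht u := (mem_T.1 (hS.le ht) i).1 u
  X _ _ x := c.XX cs h x
  X_left k _ _ := XX_sr k
  X_right _ l _ := XX_sr l
  X_conj k l _ x hx j _ a := XX_onto (real_n j) (hx.isRoot cs h) a
  X_comm := by
    intro k l hkl j hj x hx h0 hne a ha b hb
    rcases hj with rfl | rfl
    · exact comm_left hkl hx h0 hne ha hb
    · have h1 := comm_left hkl.symm (hx.symm cs h) h0 hne ha hb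
      refine (iSup₂_le fun z hz => ?_ :
        (⨆ z ∈ Cone cs h j k (sr j) x, c.XX cs h z) ≤ _) h1
      exact le_iSup₂_of_le z (Cone_swap hz) le_rfl

/-! ### rank one -/

variable {c cs h}

/-- Rank one: the nontrivial elements of `Xn i` lie in `X i S n X i`. -/
theorem rank_one {S : Subgroup Y} (hS : c.Tor S) (i : I) {a : Y} (ha : a ∈ c.Xn i) (ha1 : a ≠ 1) :
    ∃ x ∈ c.X i, ∃ t ∈ S, ∃ y ∈ c.X i, a = x * t * c.n i * y := by
  obtain ⟨x, hx, y, hy, h1, h2⟩ := c.mu i a ha ha1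
  have hm : c.IsMu i (x * a * y) := ⟨⟨a, ha, ha1, x, hx, y, hy, rfl⟩, h1, h2⟩
  exact ⟨x⁻¹, inv_mem hx, _, hS.mul_inv hm (c.n_mu i), y⁻¹, inv_mem hy, by group⟩

/-- A finite nilpotent group is not generated by two conjugate proper subgroups. -/
theorem eq_top_of_nilpotent {P : Type*} [Group P] [Finite P] [Group.IsNilpotent P] (B : Subgroup P)
    (g : P) (hB : B ⊔ B.map (MulAut.conj g).toMonoidHom = ⊤) : B = ⊤ := by
  rcases eq_top_or_exists_le_coatom B with h1 | ⟨K, hK, hBK⟩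
  · exact h1
  · exfalso
    have hn : K.Normal :=
      Subgroup.NormalizerCondition.normal_of_coatom K Group.normalizerCondition_of_isNilpotent hK
    apply hK.1
    rw [eq_top_iff, ← hB]
    refine sup_le hBK ?_
    rintro _ ⟨b, hb, rfl⟩
    exact hn.conj_mem b (hBK hb) g

/-- The rank one group is not a `p`-group. -/
theorem not_isPGroup [Finite Y] {p : ℕ} [Fact p.Prime] (i : I) :
    ¬ IsPGroup p ↥(c.X i ⊔ c.Xn i) := by
  intro hP
  have hnil : Group.IsNilpotent ↥(c.X i ⊔ c.Xn i) := hP.isNilpotent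
  have hs := (c.n_mu i).swap
  have hnm := (c.n_mu i).mem
  set P := c.X i ⊔ c.Xn i with hPdef
  have e1 : (c.Xn i).subgroupOf P =
      ((c.X i).subgroupOf P).map (MulAut.conj (⟨c.n i, hnm⟩ : P)).toMonoidHom := by
    ext ⟨y, hy⟩
    rw [Subgroup.mem_subgroupOf, Subgroup.mem_map]
    constructor
    · intro h1
      refine ⟨(⟨c.n i, hnm⟩ : P)⁻¹ * ⟨y, hy⟩ * ⟨c.n i, hnm⟩, ?_, ?_⟩
      · rw [Subgroup.mem_subgroupOf]
        exact hs.pos.mem_inv h1
      · simp only [MulEquiv.coe_toMonoidHom, MulAut.conj_apply]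
        group
    · rintro ⟨⟨x, hx⟩, hx1, hx2⟩
      rw [Subgroup.mem_subgroupOf] at hx1
      simp only [MulEquiv.coe_toMonoidHom, MulAut.conj_apply] at hx2
      have h3 := congrArg Subtype.val hx2
      simp only [Subgroup.coe_mul, Subgroup.coe_inv] at h3
      show y ∈ c.Xn i
      rw [← h3]
      exact hs.pos.mem hx1
  have e2 : (c.X i).subgroupOf P = ⊤ := by
    refine eq_top_of_nilpotent _ (⟨c.n i, hnm⟩ : P) ?_
    rw [← e1, ← Subgroup.subgroupOf_sup le_sup_left le_sup_right, Subgroup.subgroupOf_self]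
  have e3 : c.Xn i ≤ c.X i := by
    have h1 : P ≤ c.X i := Subgroup.subgroupOf_eq_top.1 e2
    exact le_sup_right.trans h1
  have e4 : c.X i ≤ c.Xn i := by
    intro x hx
    have h1 := hs.neg.mem_inv hx
    have h2 := e3 h1
    have h3 := hs.pos.mem h2
    have e : c.n i * ((c.n i)⁻¹ * x * c.n i) * (c.n i)⁻¹ = x := by group
    rwa [e] at h3
  exact c.ne i (le_antisymm e4 e3)

theorem good {S : Subgroup Y} (hS : c.Tor S) [Finite Y] {p : ℕ} [Fact p.Prime]
    (hp : ∀ i, IsPGroup p (c.X i)) (hgen : (⨆ i, (c.X i ⊔ c.Xn i)) = ⊤) :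
    (c.toSys cs h hS).Good where
  gen := by
    rw [eq_top_iff, ← hgen]
    refine iSup_le fun i => sup_le ?_ ?_
    · exact ((c.toSys cs h hS).U_le_B i).trans le_sup_left
    · intro a ha
      have h1 := (c.n_mu i).swap.pos.mem_inv ha
      have h2 : (c.n i)⁻¹ * a * c.n i ∈ (c.toSys cs h hS).B ⊔ (c.toSys cs h hS).N :=
        (le_sup_left : (c.toSys cs h hS).B ≤ _) ((c.toSys cs h hS).U_le_B i h1)
      have h3 : c.n i ∈ (c.toSys cs h hS).B ⊔ (c.toSys cs h hS).N :=
        (le_sup_right : (c.toSys cs h hS).N ≤ _) ((c.toSys cs h hS).n_mem_N i)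
      have h4 := mul_mem (mul_mem h3 h2) (inv_mem h3)
      have e : c.n i * ((c.n i)⁻¹ * a * c.n i) * (c.n i)⁻¹ = a := by group
      rwa [e] at h4
  rank_one := by
    intro i u hu
    by_cases hu1 : u = 1
    · left
      refine ⟨1, one_mem _, 1, one_mem _, ?_⟩
      rw [hu1]; group
    · right
      have h1 : c.n i * u * (c.n i)⁻¹ ∈ c.Xn i := (c.n_mu i).swap.pos.mem hu
      have h2 : c.n i * u * (c.n i)⁻¹ ≠ 1 := by
        intro h2
        apply hu1
        have e : u = (c.n i)⁻¹ * (c.n i * u * (c.n i)⁻¹) * c.n i := by group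
        rw [e, h2]; group
      obtain ⟨x, hx, t, ht, y, hy, e⟩ := rank_one hS i h1 h2
      exact ⟨x, hx, t, ht, y, hy, e⟩
  moves := by
    intro i
    by_contra hcon
    push Not at hcon
    have hP := (c.toSys cs h hS).isPGroup_UP (p := p) hp
    have hX : c.X i ≤ (c.toSys cs h hS).B := (c.toSys cs h hS).U_le_B i
    have hXn : c.Xn i ≤ (c.toSys cs h hS).B := by
      intro a ha
      have h1 := hcon _ (hX ((c.n_mu i).swap.pos.mem_inv ha))
      have e : c.n i * ((c.n i)⁻¹ * a * c.n i) * (c.n i)⁻¹ = a := by group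
      have h2 : c.n i * ((c.n i)⁻¹ * a * c.n i) * (c.n i)⁻¹ ∈ (c.toSys cs h hS).B := h1
      rwa [e] at h2
    have hn : c.n i ∈ (c.toSys cs h hS).B := (sup_le hX hXn) (c.n_mu i).mem
    obtain ⟨t, ht, u, hu, hnu⟩ := (c.toSys cs h hS).mem_B.1 hn
    have hu' : u = t⁻¹ * c.n i := by rw [hnu]; group
    have ht' : t ∈ c.T := hS.le ht
    have hs : Onto u (c.X i) (c.Xn i) := by
      rw [hu']
      exact (mem_T.1 (inv_mem ht') i).2.mul (c.n_mu i).swap.pos
    have hXU : c.X i ≤ (c.toSys cs h hS).UP := (c.toSys cs h hS).U_le_UP i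
    have hXnU : c.Xn i ≤ (c.toSys cs h hS).UP := by
      intro a ha
      have h1 := hXU (hs.mem_inv ha)
      have h2 := mul_mem (mul_mem hu h1) (inv_mem hu)
      have e : u * (u⁻¹ * a * u) * u⁻¹ = a := by group
      rwa [e] at h2
    exact not_isPGroup (c := c) (p := p) i (hP.to_le (sup_le hXU hXnU))

/-! ### all root groups -/

theorem toSys_XX {S : Subgroup Y} (hS : c.Tor S) {x : I → ℤ} (hx : IsRoot cs h x) :
    (c.toSys cs h hS).XX x = c.XX cs h x := by
  have key : ∀ w : W, ∃ g, (c.toSys cs h hS).Lift w g ∧ c.Real cs w g := by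
    intro w
    induction w using cs.simple_induction_left with
    | one => exact ⟨1, (c.toSys cs h hS).lift_one_iff.2 (one_mem _), real_one_iff.2 (one_mem _)⟩
    | mul_simple_left w i ih =>
      obtain ⟨g, h1, h2⟩ := ih
      exact ⟨c.n i * g, ((c.toSys cs h hS).lift_simple i).mul h1, (real_n i).mul h2⟩
  obtain ⟨w, i, rfl⟩ := hx
  obtain ⟨g, h1, h2⟩ := key w
  ext a
  rw [mem_XX h2, (c.toSys cs h hS).mem_XX h1]
  rfl

/-- The commutator relations for all pairs of roots. -/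
theorem comm_all {x y : I → ℤ} (hx : IsRoot cs h x) (hy : IsRoot cs h y) (hxy : x ≠ y)
    (hxy' : x ≠ -y) {a b : Y} (ha : a ∈ c.XX cs h x) (hb : b ∈ c.XX cs h y) :
    ⁅a, b⁆ ∈ Nodes.Reps.btw cs h (c.XX cs h) x y := by
  have h1 := (c.toSys cs h T_tor).comm hx hy hxy hxy' (a := a) (b := b)
    (by rw [toSys_XX T_tor hx]; exact ha) (by rw [toSys_XX T_tor hy]; exact hb)
  refine (iSup₂_le fun z hz => ?_ :
    (⨆ z ∈ Cone' cs h x y, (c.toSys cs h T_tor).XX z) ≤ _) h1
  rw [toSys_XX T_tor hz.1]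
  obtain ⟨hz1, e, p, q, he, hp, hq, h2⟩ := hz
  exact Nodes.Reps.le_btw_of ⟨hz1, e, p, q, he, hp, hq, h2⟩

theorem cj_eq_of_onto {w : Y} {P Q : Subgroup Y} (hw : Onto w P Q) : Nodes.Reps.cj w P = Q := by
  ext x
  rw [Nodes.Reps.mem_cj]
  have h1 := hw (w⁻¹ * x * w)
  have e : w * (w⁻¹ * x * w) * w⁻¹ = x := by group
  rw [e] at h1
  exact h1.symm

/-- **Root group data.** -/
theorem toRGD {S : Subgroup Y} (hS : c.Tor S) [Finite Y] {p : ℕ} [Fact p.Prime]
    (hp : ∀ i, IsPGroup p (c.X i)) (hcop : (Nat.card S).Coprime p) :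
    Nodes.BNOf.RGD cs h p S c.n (c.XX cs h) where
  nsys := ⟨fun i => hS.norm (c.n_mu i), (c.toSys cs h hS).braid⟩
  conj i x hx := cj_eq_of_onto (XX_onto (real_n i) hx)
  tor x hx t ht := by
    have h1 := XX_onto (c := c) (cs := cs) (h := h) (real_one_iff.2 (hS.le ht)) hx
    rw [map_one, Module.End.one_apply] at h1
    exact cj_eq_of_onto h1
  comm x y hx hy hxy hxy' a ha b hb := comm_all hx hy hxy hxy' ha hb
  rk1 i u hu hu1 := by
    rw [XX_neg_sr] at hu
    rw [XX_sr]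
    obtain ⟨x, hx, t, ht, y, hy, e⟩ := rank_one hS i hu hu1
    exact ⟨x, hx, t, ht, y, hy, e⟩
  pgrp i := by rw [XX_sr]; exact hp i
  notp i := by rw [XX_sr, XX_neg_sr]; exact not_isPGroup i
  tcop := hcop

/-- All root groups lie in the group generated by the simple ones and their opposites. -/
theorem XX_le {L : Subgroup Y} (hL : ∀ i, c.X i ≤ L) (hL' : ∀ i, c.Xn i ≤ L) {x : I → ℤ}
    (hx : IsRoot cs h x) : c.XX cs h x ≤ L := by
  obtain ⟨w, i, rfl⟩ := hx
  have key : ∀ w : W, ∃ g ∈ L, c.Real cs w g := by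
    intro w
    induction w using cs.simple_induction_left with
    | one => exact ⟨1, one_mem _, real_one_iff.2 (one_mem _)⟩
    | mul_simple_left w i ih =>
      obtain ⟨g, h1, h2⟩ := ih
      exact ⟨c.n i * g, mul_mem ((sup_le (hL i) (hL' i)) (c.n_mu i).mem) h1, (real_n i).mul h2⟩
  obtain ⟨g, hg, h2⟩ := key w
  intro a ha
  rw [mem_XX h2] at ha
  have h3 := mul_mem (mul_mem hg (hL i ha)) (inv_mem hg)
  have e : g * (g⁻¹ * a * g) * g⁻¹ = a := by group
  rwa [e] at h3

end RD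

/-- **Pairs ⟹ root group data.**  The input is only the subgroups `X i`, `Xn i` (opposite root groups) such
that each pair is the pair of simple root groups of a rank two system of root groups; no torus, no elements
`n i`, no braid relations. -/
theorem exists_rgd {Y : Type u} [Group Y] [Finite Y] {I W : Type*} [Fintype I] [DecidableEq I]
    [Nontrivial I] [Group W] {M : CoxeterMatrix I} (cs : CoxeterSystem M W) {A : I → I → ℤ}
    (h : IsCartan M A) [Finite W] {p : ℕ} [Fact p.Prime] (X Xn : I → Subgroup Y)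
    (hZ : ∀ i j, i ≠ j → (∃ Z, PairData (M i j) (X i) (Xn i) (X j) (Xn j) Z) ∨
      ∃ Z, PairData (M i j) (X j) (Xn j) (X i) (Xn i) Z)
    (ne : ∀ i, X i ≠ Xn i) (ne_bot : ∀ i, Xn i ≠ ⊥) (hp : ∀ i, IsPGroup p (X i))
    (hcop : ∀ i, (Nat.card ↥((X i ⊔ Xn i) ⊓ Subgroup.normalizer (X i : Set Y) ⊓
      Subgroup.normalizer (Xn i : Set Y))).Coprime p) :
    ∃ (T : Subgroup Y) (n : I → Y) (R : (I → ℤ) → Subgroup Y),
      Nodes.BNOf.RGD cs h p T n R ∧ (∀ i, R (sr i) = X i) ∧ (∀ i, R (-sr i) = Xn i) ∧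
      (∀ i, n i ∈ X i ⊔ Xn i) ∧ T ≤ ⨆ i, (X i ⊔ Xn i) ∧
      ∀ x, IsRoot cs h x → R x ≤ ⨆ i, (X i ⊔ Xn i) := by
  obtain ⟨c, rfl, rfl⟩ := RD.exists_ofPairs (M := M) X Xn hZ ne ne_bot
  have h1 : ∀ i, c.X i ≤ ⨆ i, (c.X i ⊔ c.Xn i) := fun i =>
    le_sup_left.trans (le_iSup (fun i => c.X i ⊔ c.Xn i) i)
  have h2 : ∀ i, c.Xn i ≤ ⨆ i, (c.X i ⊔ c.Xn i) := fun i =>
    le_sup_right.trans (le_iSup (fun i => c.X i ⊔ c.Xn i) i)
  refine ⟨c.T0, c.n, c.XX cs h, RD.toRGD RD.T0_tor hp (RD.T0_coprime' hcop), fun i => RD.XX_sr i,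
    fun i => RD.XX_neg_sr i, fun i => (c.n_mu i).mem, ?_, fun x hx => RD.XX_le h1 h2 hx⟩
  rw [RD.T0_eq]
  refine iSup_le fun i => (RD.T1_le i).trans (inf_le_right.trans ?_)
  exact le_iSup (fun i => c.X i ⊔ c.Xn i) i

end Cfsg.Agent.RootAmalgam
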