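import Mathlib

/-!
# Root data from rank two (S1309, piece (3a)): definitions, the `μ`-elements and the torus

`RD M Y`: for every `i` two subgroups `X i`, `Xn i` of `Y` (a simple root group and its opposite) and for
every pair `i ≠ j` a family `Z i j : ℤ → Subgroup Y` of period `2 M i j` (the root groups of the rank two
subsystem, `Z i j 1 = X i`, `Z i j (M i j) = X j`, `Z i j (M i j + 1) = Xn i`, `Z i j 0 = Xn j`) with the
commutator relations between positive root groups and the `μ`-elements.  Nothing is assumed about three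
indices.
-/

set_option autoImplicit false
set_option linter.unusedSectionVars false

namespace Cfsg.Agent.RootAmalgam

open scoped commutatorElement

universe u

variable {Y : Type u} [Group Y]

/-- `w` permutes the family `Z` by `f`. -/
def Maps (Z : ℤ → Subgroup Y) (w : Y) (f : ℤ → ℤ) : Prop :=
  ∀ k x, w * x * w⁻¹ ∈ Z (f k) ↔ x ∈ Z k

namespace Maps

variable {Z : ℤ → Subgroup Y}

theorem one : Maps Z (1 : Y) id := by
  intro k x
  simp

theorem mul {w v : Y} {f g : ℤ → ℤ} (hw : Maps Z w f) (hv : Maps Z v g) :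
    Maps Z (w * v) (fun k => f (g k)) := by
  intro k x
  have e : (w * v) * x * (w * v)⁻¹ = w * (v * x * v⁻¹) * w⁻¹ := by group
  rw [e]
  exact (hw _ _).trans (hv k x)

theorem inv {w : Y} {f g : ℤ → ℤ} (hw : Maps Z w f) (h : ∀ k, f (g k) = k) :
    Maps Z w⁻¹ g := by
  intro k x
  have h1 := hw (g k) (w⁻¹ * x * w)
  rw [h k] at h1
  have e : w * (w⁻¹ * x * w) * w⁻¹ = x := by group
  rw [e] at h1
  rw [inv_inv]
  exact h1.symm

theorem congr {w : Y} {f g : ℤ → ℤ} (hw : Maps Z w f) (h : ∀ k, f k = g k) :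
    Maps Z w g := by
  intro k x
  rw [← h k]
  exact hw k x

end Maps

/-- `w` conjugates the subgroup `A` onto the subgroup `B`. -/
def Onto (w : Y) (A B : Subgroup Y) : Prop := ∀ x, w * x * w⁻¹ ∈ B ↔ x ∈ A

namespace Onto

variable {A B C : Subgroup Y} {w v : Y}

theorem one : Onto 1 A A := by
  intro x
  simp

theorem mul (hw : Onto w B C) (hv : Onto v A B) : Onto (w * v) A C := by
  intro x
  have e : (w * v) * x * (w * v)⁻¹ = w * (v * x * v⁻¹) * w⁻¹ := by group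
  rw [e]
  exact (hw _).trans (hv x)

theorem inv (hw : Onto w A B) : Onto w⁻¹ B A := by
  intro x
  have h1 := hw (w⁻¹ * x * w)
  have e : w * (w⁻¹ * x * w) * w⁻¹ = x := by group
  rw [e] at h1
  rw [inv_inv]
  exact h1.symm

theorem eq (hw : Onto w A B) (hw' : Onto w A C) : B = C := by
  ext x
  have h1 := hw (w⁻¹ * x * w)
  have h2 := hw' (w⁻¹ * x * w)
  have e : w * (w⁻¹ * x * w) * w⁻¹ = x := by group
  rw [e] at h1 h2
  rw [h1, h2]

theorem eq_left (hw : Onto w A C) (hw' : Onto w B C) : A = B := hw.inv.eq hw'.inv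

theorem mem (hw : Onto w A B) {x : Y} (hx : x ∈ A) : w * x * w⁻¹ ∈ B := (hw x).2 hx

theorem mem_inv (hw : Onto w A B) {x : Y} (hx : x ∈ B) : w⁻¹ * x * w ∈ A := by
  have := hw.inv.mem hx
  rwa [inv_inv] at this

theorem of_mem (hw : w ∈ A) : Onto w A A := by
  intro x
  constructor
  · intro h
    have h1 := mul_mem (mul_mem (inv_mem hw) h) hw
    have e : w⁻¹ * (w * x * w⁻¹) * w = x := by group
    rwa [e] at h1
  · intro h
    exact mul_mem (mul_mem hw h) (inv_mem hw)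

end Onto

theorem Maps.onto {Z : ℤ → Subgroup Y} {w : Y} {f : ℤ → ℤ} (hw : Maps Z w f) {k l : ℤ}
    (h : f k = l) : Onto w (Z k) (Z l) := by
  intro x
  rw [← h]
  exact hw k x

/-- Root datum given by its rank two parts. -/
structure RD {I : Type*} (M : CoxeterMatrix I) (Y : Type u) [Group Y] where
  X : I → Subgroup Y
  Xn : I → Subgroup Y
  Z : I → I → ℤ → Subgroup Y
  per : ∀ i j, i ≠ j → ∀ k, Z i j (k + 2 * M i j) = Z i j k
  z_one : ∀ i j, i ≠ j → Z i j 1 = X i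
  z_m : ∀ i j, i ≠ j → Z i j (M i j) = X j
  z_m1 : ∀ i j, i ≠ j → Z i j (M i j + 1) = Xn i
  z_zero : ∀ i j, i ≠ j → Z i j 0 = Xn j
  comm : ∀ i j, i ≠ j → ∀ k l : ℤ, 1 ≤ k → k < l → l ≤ M i j → ∀ x ∈ Z i j k, ∀ y ∈ Z i j l,
    ⁅x, y⁆ ∈ ⨆ r ∈ Set.Ioo k l, Z i j r
  mu : ∀ i, ∀ a ∈ Xn i, a ≠ 1 → ∃ x ∈ X i, ∃ y ∈ X i,
    (∀ j, i ≠ j → Maps (Z i j) (x * a * y) (fun k => M i j + 2 - k)) ∧
    (∀ j, j ≠ i → Maps (Z j i) (x * a * y) (fun k => M j i - k))
  ne : ∀ i, X i ≠ Xn i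
  ne_bot : ∀ i, Xn i ≠ ⊥

namespace RD

variable {I : Type*} {M : CoxeterMatrix I} (c : RD M Y)

/-- The `μ`-elements. -/
structure IsMu (i : I) (n : Y) : Prop where
  form : ∃ a ∈ c.Xn i, a ≠ 1 ∧ ∃ x ∈ c.X i, ∃ y ∈ c.X i, n = x * a * y
  right : ∀ j, i ≠ j → Maps (c.Z i j) n (fun k => M i j + 2 - k)
  left : ∀ j, j ≠ i → Maps (c.Z j i) n (fun k => M j i - k)

/-- `n` exchanges `X i` and `Xn i`. -/
structure Swap (i : I) (n : Y) : Prop where
  pos : Onto n (c.X i) (c.Xn i)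
  neg : Onto n (c.Xn i) (c.X i)

theorem exists_mu (i : I) : ∃ n, c.IsMu i n := by
  obtain ⟨a, h⟩ := Subgroup.ne_bot_iff_exists_ne_one.1 (c.ne_bot i)
  have h1 : (a : Y) ≠ 1 := fun e => h (Subtype.ext e)
  obtain ⟨x, hx, y, hy, h2, h3⟩ := c.mu i a a.2 h1
  exact ⟨_, ⟨a, a.2, h1, x, hx, y, hy, rfl⟩, h2, h3⟩

variable {c}

theorem IsMu.mem {i : I} {n : Y} (h : c.IsMu i n) : n ∈ c.X i ⊔ c.Xn i := by
  obtain ⟨a, ha, _, x, hx, y, hy, rfl⟩ := h.form
  have l1 : c.X i ≤ c.X i ⊔ c.Xn i := le_sup_left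
  have l2 : c.Xn i ≤ c.X i ⊔ c.Xn i := le_sup_right
  exact mul_mem (mul_mem (l1 hx) (l2 ha)) (l1 hy)

theorem IsMu.inv {i : I} {n : Y} (h : c.IsMu i n) : c.IsMu i n⁻¹ := by
  refine ⟨?_, fun j hj => (h.right j hj).inv fun k => by ring,
    fun j hj => (h.left j hj).inv fun k => by ring⟩
  obtain ⟨a, ha, ha1, x, hx, y, hy, rfl⟩ := h.form
  exact ⟨a⁻¹, inv_mem ha, inv_ne_one.2 ha1, y⁻¹, inv_mem hy, x⁻¹, inv_mem hx, by group⟩

variable [Nontrivial I]

theorem IsMu.swap {i : I} {n : Y} (h : c.IsMu i n) : c.Swap i n := by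
  obtain ⟨j, hj⟩ := exists_ne i
  constructor
  · rw [← c.z_one i j hj.symm, ← c.z_m1 i j hj.symm]
    exact (h.right j hj.symm).onto (by ring)
  · rw [← c.z_one i j hj.symm, ← c.z_m1 i j hj.symm]
    exact (h.right j hj.symm).onto (by ring)

theorem Swap.inv {i : I} {n : Y} (h : c.Swap i n) : c.Swap i n⁻¹ := ⟨h.neg.inv, h.pos.inv⟩

/-- An element of `X i` normalising `Xn i` is trivial. -/
theorem eq_one_of_normalises {i : I} {u : Y} (hu : u ∈ c.X i) (hn : Onto u (c.Xn i) (c.Xn i)) :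
    u = 1 := by
  by_contra hne
  obtain ⟨n, h⟩ := c.exists_mu i
  have hs := h.swap
  have h1 : n⁻¹ * u * n ∈ c.Xn i := hs.neg.mem_inv hu
  have h2 : n⁻¹ * u * n ≠ 1 := by
    intro h2
    apply hne
    have : u = n * (n⁻¹ * u * n) * n⁻¹ := by group
    rw [this, h2]; group
  obtain ⟨x, hx, y, hy, h3, h4⟩ := c.mu i _ h1 h2
  have h5 : c.IsMu i (x * (n⁻¹ * u * n) * y) := ⟨⟨_, h1, h2, x, hx, y, hy, rfl⟩, h3, h4⟩
  have hs5 := h5.swap
  -- `n * _ * n⁻¹` normalises `Xn i`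
  have e : n * (x * (n⁻¹ * u * n) * y) * n⁻¹ = (n * x * n⁻¹) * u * (n * y * n⁻¹) := by group
  have h6 : Onto (n * (x * (n⁻¹ * u * n) * y) * n⁻¹) (c.Xn i) (c.Xn i) := by
    rw [e]
    exact ((Onto.of_mem (hs.pos.mem hx)).mul hn).mul (Onto.of_mem (hs.pos.mem hy))
  have h7 : Onto (n * (x * (n⁻¹ * u * n) * y) * n⁻¹) (c.Xn i) (c.X i) :=
    (hs.neg.mul hs5.pos).mul hs.pos.inv
  exact c.ne i (h7.eq h6)

/-- An element `x a y` exchanging `X i` and `Xn i` is a `μ`-element. -/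
theorem isMu_of_swap {i : I} {a x y : Y} (ha : a ∈ c.Xn i) (ha1 : a ≠ 1) (hx : x ∈ c.X i)
    (hy : y ∈ c.X i) (h : c.Swap i (x * a * y)) : c.IsMu i (x * a * y) := by
  obtain ⟨x', hx', y', hy', h3, h4⟩ := c.mu i a ha ha1
  have h5 : c.IsMu i (x' * a * y') := ⟨⟨a, ha, ha1, x', hx', y', hy', rfl⟩, h3, h4⟩
  have hs := h5.swap
  -- `x a` and `x' a`
  have hxa : Onto (x * a) (c.X i) (c.Xn i) := by
    have := h.pos.mul (Onto.of_mem (inv_mem hy))
    have e : x * a * y * y⁻¹ = x * a := by group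
    rwa [e] at this
  have hxa' : Onto (x' * a) (c.X i) (c.Xn i) := by
    have := hs.pos.mul (Onto.of_mem (inv_mem hy'))
    have e : x' * a * y' * y'⁻¹ = x' * a := by group
    rwa [e] at this
  have hx1 : x' * x⁻¹ = 1 := by
    apply eq_one_of_normalises (mul_mem hx' (inv_mem hx))
    have := hxa'.mul hxa.inv
    have e : x' * a * (x * a)⁻¹ = x' * x⁻¹ := by group
    rwa [e] at this
  have hx2 : x' = x := mul_inv_eq_one.1 hx1
  have hay : Onto (a * y) (c.Xn i) (c.X i) := by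
    have := (Onto.of_mem (inv_mem hx)).mul h.neg
    have e : x⁻¹ * (x * a * y) = a * y := by group
    rwa [e] at this
  have hay' : Onto (a * y') (c.Xn i) (c.X i) := by
    have := (Onto.of_mem (inv_mem hx')).mul hs.neg
    have e : x'⁻¹ * (x' * a * y') = a * y' := by group
    rwa [e] at this
  have hy1 : y⁻¹ * y' = 1 := by
    apply eq_one_of_normalises (mul_mem (inv_mem hy) hy')
    have := hay.inv.mul hay'
    have e : (a * y)⁻¹ * (a * y') = y⁻¹ * y' := by group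
    rwa [e] at this
  have hy2 : y = y' := inv_mul_eq_one.1 hy1
  rw [hy2, ← hx2]
  exact h5

variable (c)

/-- The torus: the elements normalising all `X i` and `Xn i`. -/
def T : Subgroup Y where
  carrier := {y | ∀ i, Onto y (c.X i) (c.X i) ∧ Onto y (c.Xn i) (c.Xn i)}
  mul_mem' := by
    intro a b ha hb i
    exact ⟨(ha i).1.mul (hb i).1, (ha i).2.mul (hb i).2⟩
  one_mem' := fun i => ⟨Onto.one, Onto.one⟩
  inv_mem' := by
    intro a ha i
    exact ⟨(ha i).1.inv, (ha i).2.inv⟩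

variable {c}

theorem mem_T {y : Y} : y ∈ c.T ↔ ∀ i, Onto y (c.X i) (c.X i) ∧ Onto y (c.Xn i) (c.Xn i) := Iff.rfl

/-- Two `μ`-elements differ by an element of the torus. -/
theorem IsMu.inv_mul_mem {i : I} {n n' : Y} (h : c.IsMu i n) (h' : c.IsMu i n') :
    n⁻¹ * n' ∈ c.T := by
  intro j
  by_cases hij : i = j
  · subst hij
    exact ⟨h.swap.pos.inv.mul h'.swap.pos, h.swap.neg.inv.mul h'.swap.neg⟩
  · have h1 := ((h.inv.right j hij).mul (h'.right j hij)).congr (g := fun k => k) fun k => by ring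
    rw [← c.z_m i j hij, ← c.z_zero i j hij]
    exact ⟨h1.onto rfl, h1.onto rfl⟩

theorem IsMu.mul_inv_mem {i : I} {n n' : Y} (h : c.IsMu i n) (h' : c.IsMu i n') :
    n * n'⁻¹ ∈ c.T := by
  have := h.inv.inv_mul_mem h'.inv
  rwa [inv_inv] at this

theorem IsMu.sq_mem {i : I} {n : Y} (h : c.IsMu i n) : n * n ∈ c.T := by
  have := h.mul_inv_mem h.inv
  rwa [inv_inv] at this

/-- The torus permutes the `μ`-elements. -/
theorem IsMu.conj {i : I} {n y : Y} (h : c.IsMu i n) (hy : y ∈ c.T) : c.IsMu i (y * n * y⁻¹) := by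
  obtain ⟨a, ha, ha1, x, hx, z, hz, rfl⟩ := h.form
  have hs := h.swap
  have e : y * (x * a * z) * y⁻¹ = (y * x * y⁻¹) * (y * a * y⁻¹) * (y * z * y⁻¹) := by group
  rw [e]
  refine isMu_of_swap ((hy i).2.mem ha) ?_ ((hy i).1.mem hx) ((hy i).1.mem hz) ?_
  · intro h1
    apply ha1
    have : a = y⁻¹ * (y * a * y⁻¹) * y := by group
    rw [this, h1]; group
  · rw [← e]
    exact ⟨((hy i).2.mul hs.pos).mul (hy i).1.inv, ((hy i).1.mul hs.neg).mul (hy i).2.inv⟩

/-- The `μ`-elements normalise the torus. -/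
theorem IsMu.conj_mem {i : I} {n y : Y} (h : c.IsMu i n) (hy : y ∈ c.T) : n * y * n⁻¹ ∈ c.T := by
  have h1 := mul_mem (h.mul_inv_mem (h.conj hy)) hy
  have e : n * (y * n * y⁻¹)⁻¹ * y = n * y * n⁻¹ := by group
  rwa [e] at h1

theorem IsMu.conj_mem' {i : I} {n y : Y} (h : c.IsMu i n) (hy : y ∈ c.T) : n⁻¹ * y * n ∈ c.T := by
  have := h.inv.conj_mem hy
  rwa [inv_inv] at this

end RD

end Cfsg.Agent.RootAmalgam
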