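import Cfsg.Agent.RootAmalgam.Basic
import Cfsg.Agent.Tits.OppRes

/-!
# Root data from rank two (S1309, piece (3a)): the braid relations modulo the torus

The `μ`-elements satisfy the braid relations modulo the torus `T`; so there is a homomorphism `φ` from the
Coxeter group to `N(T) / T`.  `Real w y`: the element `y` represents `φ w`.
-/

set_option autoImplicit false
set_option linter.unusedSectionVars false

namespace Cfsg.Agent.RootAmalgam

universe u

section Ralt

variable {H : Type*} [Group H]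

/-- The alternating word with `r` letters ending with `b`. -/
def ralt (a b : H) : ℕ → H
  | 0 => 1
  | r + 1 => ralt b a r * b

@[simp] theorem ralt_zero (a b : H) : ralt a b 0 = 1 := rfl

theorem ralt_succ (a b : H) (r : ℕ) : ralt a b (r + 1) = ralt b a r * b := rfl

theorem ralt_one (a b : H) : ralt a b 1 = b := by rw [ralt_succ, ralt_zero, one_mul]

theorem ralt_succ' (a b : H) (r : ℕ) :
    ralt a b (r + 1) = (if Even r then b else a) * ralt a b r := by
  induction r generalizing a b with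
  | zero => simp [ralt_succ]
  | succ r ih =>
    rw [ralt_succ, ih, ralt_succ, mul_assoc]
    congr 1
    by_cases h : Even r
    · have h' : ¬ Even (r + 1) := by simpa [Nat.even_add_one] using h
      rw [if_pos h, if_neg h']
    · have h' : Even (r + 1) := by simpa [Nat.even_add_one] using h
      rw [if_neg h, if_pos h']

theorem map_ralt {H' : Type*} [Group H'] (f : H →* H') (a b : H) (r : ℕ) :
    f (ralt a b r) = ralt (f a) (f b) r := by
  induction r generalizing a b with
  | zero => simp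
  | succ r ih => rw [ralt_succ, ralt_succ, map_mul, ih]

theorem mul_pow_eq (a b : H) (ha : a * a = 1) (hb : b * b = 1) (r : ℕ) :
    (a * b) ^ r = (ralt b a r)⁻¹ * ralt a b r := by
  have ha' : a⁻¹ = a := inv_eq_of_mul_eq_one_left ha
  have hb' : b⁻¹ = b := inv_eq_of_mul_eq_one_left hb
  induction r with
  | zero => simp
  | succ r ih =>
    have h1 : ralt b a r = ralt a b r * ((a * b) ^ r)⁻¹ := by
      rw [ih]; group
    rw [ralt_succ, ralt_succ, mul_inv_rev, h1, ha']
    have h2 : ((a * b) ^ r)⁻¹ = (b * a) ^ r := by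
      rw [← inv_pow, mul_inv_rev, ha', hb']
    rw [h2]
    have h3 : a * (ralt a b r)⁻¹ * (ralt a b r * (b * a) ^ r * b) = a * ((b * a) ^ r * b) := by
      group
    rw [h3, pow_succ']
    have h4 : ∀ k : ℕ, (b * a) ^ k * b = b * (a * b) ^ k := by
      intro k
      induction k with
      | zero => simp
      | succ k ih => rw [pow_succ', pow_succ', mul_assoc, ih]; simp only [mul_assoc]
    rw [h4, mul_assoc]

end Ralt

namespace RD

open Cfsg.Agent.Tits.Core Cfsg.Agent.Tits.OppRes

variable {Y : Type u} [Group Y] {I : Type*} {M : CoxeterMatrix I} {c : RD M Y} [Nontrivial I]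

theorem ralt_maps {i j : I} (hij : i ≠ j) {p q : Y} (hp : c.IsMu i p) (hq : c.IsMu j q) (r : ℕ) :
    Maps (c.Z i j) (ralt p q r) (fun k => if Even r then k + r else M i j + 1 - r - k) ∧
    Maps (c.Z i j) (ralt q p r) (fun k => if Even r then k - r else M i j + 1 + r - k) := by
  have h1 := hp.right j hij
  have h2 := hq.left i hij
  induction r with
  | zero =>
    exact ⟨Maps.one.congr fun k => by simp, Maps.one.congr fun k => by simp⟩
  | succ r ih =>
    constructor
    · refine (ih.2.mul h2).congr fun k => ?_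
      by_cases h : Even r
      · have h' : ¬ Even (r + 1) := by simpa [Nat.even_add_one] using h
        rw [if_pos h, if_neg h']
        push_cast; ring
      · have h' : Even (r + 1) := by simpa [Nat.even_add_one] using h
        rw [if_neg h, if_pos h']
        push_cast; ring
    · refine (ih.1.mul h1).congr fun k => ?_
      by_cases h : Even r
      · have h' : ¬ Even (r + 1) := by simpa [Nat.even_add_one] using h
        rw [if_pos h, if_neg h']
        push_cast; ring
      · have h' : Even (r + 1) := by simpa [Nat.even_add_one] using h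
        rw [if_neg h, if_pos h']
        push_cast; ring

/-- Conjugating a `μ`-element by an element which maps `X i`, `Xn i` onto `X k`, `Xn k`. -/
theorem IsMu.conj_onto {i k : I} {p w : Y} (hp : c.IsMu i p) (h1 : Onto w (c.X i) (c.X k))
    (h2 : Onto w (c.Xn i) (c.Xn k)) : c.IsMu k (w * p * w⁻¹) := by
  have hs := hp.swap
  obtain ⟨a, ha, ha1, x, hx, z, hz, rfl⟩ := hp.form
  have e : w * (x * a * z) * w⁻¹ = (w * x * w⁻¹) * (w * a * w⁻¹) * (w * z * w⁻¹) := by group
  rw [e]
  refine isMu_of_swap (h2.mem ha) ?_ (h1.mem hx) (h1.mem hz) ?_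
  · intro h3
    apply ha1
    have : a = w⁻¹ * (w * a * w⁻¹) * w := by group
    rw [this, h3]; group
  · rw [← e]
    exact ⟨(h2.mul hs.pos).mul h1.inv, (h1.mul hs.neg).mul h2.inv⟩

/-- The braid relation: the key conjugation. -/
theorem braid_aux {i j : I} (hij : i ≠ j) {p q : Y} (hp : c.IsMu i p) (hq : c.IsMu j q) {r : ℕ}
    (hm : M i j = r + 1) :
    c.IsMu (if Even r then j else i) (ralt p q r * p * (ralt p q r)⁻¹) := by
  have h := (ralt_maps hij hp hq r).1
  have hm' : (M i j : ℤ) = r + 1 := by exact_mod_cast hm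
  by_cases hr : Even r
  · rw [if_pos hr]
    simp only [if_pos hr] at h
    refine hp.conj_onto ?_ ?_
    · rw [← c.z_one i j hij, ← c.z_m i j hij]
      exact h.onto (by rw [hm']; ring)
    · rw [← c.z_m1 i j hij, ← c.z_zero i j hij, ← c.per i j hij 0]
      exact h.onto (by rw [hm']; ring)
  · rw [if_neg hr]
    simp only [if_neg hr] at h
    refine hp.conj_onto ?_ ?_
    · rw [← c.z_one i j hij]
      exact h.onto (by rw [hm']; ring)
    · rw [← c.z_m1 i j hij]
      have h1 : c.Z i j (M i j + 1) = c.Z i j (1 - M i j) := by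
        rw [← c.per i j hij (1 - M i j)]
        congr 1
        ring
      nth_rewrite 2 [h1]
      exact h.onto (by rw [hm']; ring)

variable (c)

/-- The chosen `μ`-elements. -/
noncomputable def n (i : I) : Y := (c.exists_mu i).choose

theorem n_mu (i : I) : c.IsMu i (c.n i) := (c.exists_mu i).choose_spec

/-- The normaliser of the torus. -/
def NT : Subgroup Y := Subgroup.normalizer (c.T : Set Y)

theorem mem_NT_of_mu {i : I} {p : Y} (hp : c.IsMu i p) : p ∈ c.NT := by
  rw [NT, Subgroup.mem_normalizer_iff]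
  intro y
  refine ⟨fun hy => hp.conj_mem hy, fun hy => ?_⟩
  have := hp.conj_mem' hy
  have e : p⁻¹ * (p * y * p⁻¹) * p = y := by group
  rwa [e] at this

theorem T_le_NT : c.T ≤ c.NT := Subgroup.le_normalizer

theorem T_normal : (c.T.subgroupOf c.NT).Normal := Subgroup.normal_in_normalizer

/-- The quotient `N(T) / T`. -/
abbrev Quo : Type _ := c.NT ⧸ c.T.subgroupOf c.NT

theorem mk_eq_iff (a b : c.NT) :
    (QuotientGroup.mk a : c.Quo) = QuotientGroup.mk b ↔ (a : Y)⁻¹ * b ∈ c.T := by
  rw [QuotientGroup.eq, Subgroup.mem_subgroupOf]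
  rfl

instance : Group c.Quo :=
  haveI := c.T_normal
  inferInstanceAs (Group (c.NT ⧸ c.T.subgroupOf c.NT))

/-- The classes of the `μ`-elements. -/
noncomputable def qn (i : I) : c.Quo := QuotientGroup.mk (⟨c.n i, c.mem_NT_of_mu (c.n_mu i)⟩ : c.NT)

/-- The projection. -/
def proj : c.NT →* c.Quo :=
  haveI := c.T_normal
  QuotientGroup.mk' _

theorem proj_eq_iff (a b : c.NT) : c.proj a = c.proj b ↔ (a : Y)⁻¹ * b ∈ c.T := c.mk_eq_iff a b

theorem proj_eq_one_iff (a : c.NT) : c.proj a = 1 ↔ (a : Y) ∈ c.T := by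
  rw [eq_comm, ← map_one c.proj, proj_eq_iff]
  simp

theorem qn_eq (i : I) : c.qn i = c.proj ⟨c.n i, c.mem_NT_of_mu (c.n_mu i)⟩ := rfl

theorem qn_sq (i : I) : c.qn i * c.qn i = 1 := by
  rw [qn_eq, ← map_mul, proj_eq_one_iff]
  exact (c.n_mu i).sq_mem

theorem qn_braid {i j : I} (hij : i ≠ j) (hm : M i j ≠ 0) :
    ralt (c.qn i) (c.qn j) (M i j) = ralt (c.qn j) (c.qn i) (M i j) := by
  obtain ⟨r, hr⟩ := Nat.exists_eq_succ_of_ne_zero hm
  rw [Nat.succ_eq_add_one] at hr
  have hpi := c.mem_NT_of_mu (c.n_mu i)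
  have hpj := c.mem_NT_of_mu (c.n_mu j)
  have h1 := braid_aux hij (c.n_mu i) (c.n_mu j) hr
  have hw : ∀ r : ℕ, ((ralt (⟨c.n i, hpi⟩ : c.NT) ⟨c.n j, hpj⟩ r : c.NT) : Y) =
      ralt (c.n i) (c.n j) r := fun r => map_ralt c.NT.subtype _ _ r
  rw [hr, ralt_succ', ralt_succ (c.qn j) (c.qn i)]
  rw [qn_eq, qn_eq, ← map_ralt]
  have key : ∀ k, c.IsMu k (ralt (c.n i) (c.n j) r * c.n i * (ralt (c.n i) (c.n j) r)⁻¹) →
      c.qn k * c.proj (ralt (⟨c.n i, hpi⟩ : c.NT) ⟨c.n j, hpj⟩ r) =
        c.proj (ralt (⟨c.n i, hpi⟩ : c.NT) ⟨c.n j, hpj⟩ r) * c.proj ⟨c.n i, hpi⟩ := by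
    intro k hk
    have h2 : c.qn k = c.proj (ralt (⟨c.n i, hpi⟩ : c.NT) ⟨c.n j, hpj⟩ r * ⟨c.n i, hpi⟩ *
        (ralt (⟨c.n i, hpi⟩ : c.NT) ⟨c.n j, hpj⟩ r)⁻¹) := by
      rw [qn_eq, proj_eq_iff]
      have := (c.n_mu k).inv_mul_mem hk
      rw [← hw] at this
      exact this
    rw [h2, map_mul, map_mul, map_inv]
    group
  by_cases he : Even r
  · rw [if_pos he] at h1 ⊢
    exact key j h1
  · rw [if_neg he] at h1 ⊢
    exact key i h1

theorem isLiftable (hM : ∀ i j, M i j ≠ 0) : M.IsLiftable c.qn := by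
  intro i j
  by_cases hij : i = j
  · subst hij
    rw [M.diagonal, pow_one, qn_sq]
  · rw [mul_pow_eq _ _ (c.qn_sq i) (c.qn_sq j), c.qn_braid hij (hM i j), inv_mul_cancel]

end RD

end Cfsg.Agent.RootAmalgam
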