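import Cfsg.Agent.RootAmalgam.Roots
import Cfsg.Agent.Nodes.Base

/-!
# Root data from rank two: the roots of a rank two subsystem and their positions

`gam cs h r k l` is the root at position `r + 1` of the rank two system of `k` and `l` (so `gam 0 = α_k`,
`gam (M k l - 1) = α_l`).  The roots at the positions `1, …, M k l` are the positive roots, in convex order:
`gam_btw`.
-/

set_option autoImplicit false
set_option linter.unusedSectionVars false

namespace Cfsg.Agent.RootAmalgam

open CoxeterSystem Cfsg.Agent.ChevalleyStructure.CoxeterGeom Cfsg.Agent.Tits.Roots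
open Cfsg.Agent.Nodes

variable {I W : Type*} [Fintype I] [DecidableEq I] [Group W] {M : CoxeterMatrix I}
  (cs : CoxeterSystem M W) {A : I → I → ℤ} (h : IsCartan M A)

/-- An element mapping `α_i` to `α_k` conjugates `s_i` to `s_k`. -/
theorem simple_conj [Finite W] {u : W} {i k : I} (hu : rep cs h u (sr i) = sr k) :
    u * cs.simple i * u⁻¹ = cs.simple k := by
  have := Fintype.ofFinite W
  apply rep_injective cs h
  refine LinearMap.ext fun x => ?_
  rw [rep_mul_apply, rep_mul_apply, rep_simple_eq, rep_simple_eq, map_sub, map_smul, rep_apply_inv, hu]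
  have h1 := two_form cs h i (rep cs h u⁻¹ x)
  have h2 := two_form cs h k x
  have h3 : form cs h (rep cs h u⁻¹ x) (sr i) = form cs h x (sr k) := by
    rw [form_rep_left, inv_inv, hu]
  have h4 : form cs h (sr i) (sr i) = form cs h (sr k) (sr k) := by
    rw [← hu, form_rep]
  rw [h3, h2, h4] at h1
  have h5 := form_pos cs h (sr_ne_zero k)
  have h6 : pairing A k x = pairing A i (rep cs h u⁻¹ x) := mul_right_cancel₀ h5.ne' h1
  rw [h6]

/-- The root at position `r + 1`. -/
noncomputable def gam : ℕ → I → I → (I → ℤ)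
  | 0, k, _ => sr k
  | r + 1, k, l => rep cs h (cs.simple k) (gam r l k)

theorem gam_zero (k l : I) : gam cs h 0 k l = sr k := rfl

theorem gam_succ (r : ℕ) (k l : I) :
    gam cs h (r + 1) k l = rep cs h (cs.simple k) (gam cs h r l k) := rfl

theorem gam_eq (r : ℕ) (k l : I) : gam cs h r k l =
    if Even r then rep cs h (ralt (cs.simple k) (cs.simple l) r) (sr k)
    else rep cs h (ralt (cs.simple l) (cs.simple k) r) (sr l) := by
  induction r generalizing k l with
  | zero => simp [gam_zero]
  | succ r ih =>
    rw [gam_succ, ih l k]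
    by_cases he : Even r
    · have he' : ¬ Even (r + 1) := by simpa [Nat.even_add_one] using he
      rw [if_pos he, if_neg he', ralt_succ', if_pos he, rep_mul_apply]
    · have he' : Even (r + 1) := by simpa [Nat.even_add_one] using he
      rw [if_neg he, if_pos he', ralt_succ', if_neg he, rep_mul_apply]

theorem gam_rootJ (r : ℕ) (k l : I) : RootJ cs h k l (gam cs h r k l) := by
  induction r generalizing k l with
  | zero => exact rootJ_left cs h k l
  | succ r ih =>
    exact ((ih l k).symm cs h).act cs h
      (Cfsg.Agent.Tits.OppRes.simple_mem_WJ (by simp))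

theorem wordProd_alternatingWord (i j : I) (r : ℕ) :
    cs.wordProd (alternatingWord i j r) = ralt (cs.simple i) (cs.simple j) r := by
  induction r generalizing i j with
  | zero => simp [alternatingWord]
  | succ r ih => rw [alternatingWord_succ, wordProd_concat, ih, ralt_succ]

theorem ralt_nonneg {k l : I} (hkl : k ≠ l) {r : ℕ} (hr : r < M k l) :
    0 ≤ rep cs h (ralt (cs.simple k) (cs.simple l) r) (sr k) := by
  obtain ⟨x, y, hx, hy, hxy⟩ := exists_nonneg cs h k l hkl r hr
  rw [← wordProd_alternatingWord, sr, hxy]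
  exact add_nonneg (Pi.single_nonneg.2 hx) (Pi.single_nonneg.2 hy)

theorem gam_nonneg {k l : I} (hkl : k ≠ l) {r : ℕ} (hr : r < M k l) : 0 ≤ gam cs h r k l := by
  rw [gam_eq]
  split_ifs
  · exact ralt_nonneg cs h hkl hr
  · exact ralt_nonneg cs h hkl.symm (by rwa [M.symmetric])

/-- The determinant of two vectors in the coordinates `k` and `l`. -/
def dt (k l : I) (x y : I → ℤ) : ℤ := x k * y l - x l * y k

omit [Fintype I] [DecidableEq I] in
theorem dt_symm (k l : I) (x y : I → ℤ) : dt l k x y = - dt k l x y := by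
  unfold dt; ring

theorem pairing_eq {k l : I} (hkl : k ≠ l) {x : I → ℤ} (hx : RootJ cs h k l x) :
    pairing A k x = 2 * x k + A k l * x l := by
  conv_lhs => rw [hx.eq_comb cs h hkl]
  rw [pairing_add, pairing_smul, pairing_smul, sr, sr, pairing_single, pairing_single, h.diag]
  ring

theorem dt_refl {k l : I} (hkl : k ≠ l) {x y : I → ℤ} (hx : RootJ cs h k l x)
    (hy : RootJ cs h k l y) :
    dt k l (rep cs h (cs.simple k) x) (rep cs h (cs.simple k) y) = - dt k l x y := by
  unfold dt
  rw [rep_simple_apply_self, rep_simple_apply_self, rep_simple_apply cs h k x l hkl.symm,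
    rep_simple_apply cs h k y l hkl.symm, pairing_eq cs h hkl hx, pairing_eq cs h hkl hy]
  ring

theorem gam_dt {k l : I} (hkl : k ≠ l) (r : ℕ) :
    dt k l (gam cs h r k l) (gam cs h (r + 1) k l) = 1 := by
  induction r generalizing k l with
  | zero =>
    rw [gam_succ, gam_zero, gam_zero]
    unfold dt
    rw [rep_simple_apply cs h k _ l hkl.symm, sr_self, sr_self, sr_ne hkl.symm]
    ring
  | succ r ih =>
    rw [gam_succ, gam_succ cs h (r + 1), dt_refl cs h hkl ((gam_rootJ cs h r l k).symm cs h)
      ((gam_rootJ cs h (r + 1) l k).symm cs h), dt_symm l k, neg_neg]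
    exact ih hkl.symm

theorem gam_dt_pos {k l : I} (hkl : k ≠ l) {i j : ℕ} (hij : i < j) (hj : j < M k l) :
    0 < dt k l (gam cs h i k l) (gam cs h j k l) := by
  induction j, hij using Nat.le_induction with
  | base => rw [gam_dt cs h hkl]; exact one_pos
  | succ j hij ih =>
    have h1 := ih (by omega)
    have h2 := gam_dt cs h hkl j
    have h3 := gam_nonneg cs h hkl (r := i) (by omega)
    have h4 := gam_nonneg cs h hkl (r := j) (by omega)
    have h5 := gam_nonneg cs h hkl (r := j + 1) (by omega)
    generalize gam cs h i k l = x at *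
    generalize gam cs h j k l = y at *
    generalize gam cs h (j + 1) k l = z at *
    unfold dt at *
    have a1 := h3 k
    have a2 := h3 l
    have a3 := h4 k
    have a4 := h4 l
    have a5 := h5 k
    have a6 := h5 l
    simp only [Pi.zero_apply] at a1 a2 a3 a4 a5 a6
    have b1 : 0 < y k := by
      rcases a3.lt_or_eq with h6 | h6
      · exact h6
      · rw [← h6] at h2
        nlinarith [mul_nonneg a4 a5]
    have b2 : 0 < x k := by
      rcases a1.lt_or_eq with h6 | h6
      · exact h6
      · rw [← h6] at h1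
        nlinarith [mul_nonneg a2 a3]
    have e : y k * (x k * z l - x l * z k) =
        z k * (x k * y l - x l * y k) + x k * (y k * z l - y l * z k) := by ring
    rw [h2, mul_one] at e
    have h7 : 0 < y k * (x k * z l - x l * z k) := by
      rw [e]
      exact add_pos_of_nonneg_of_pos (mul_nonneg a5 h1.le) b2
    exact pos_of_mul_pos_right h7 a3

/-- Cramer's rule. -/
theorem dt_cramer {k l : I} (hkl : k ≠ l) {x y z : I → ℤ} (hx : RootJ cs h k l x)
    (hy : RootJ cs h k l y) (hz : RootJ cs h k l z) :
    dt k l x z • y = dt k l y z • x + dt k l x y • z := by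
  funext j
  simp only [Pi.add_apply, Pi.smul_apply, smul_eq_mul]
  unfold dt
  by_cases hk : j = k
  · subst hk; ring
  · by_cases hl : j = l
    · subst hl; ring
    · rw [hx.apply cs h j hk hl, hy.apply cs h j hk hl, hz.apply cs h j hk hl]; ring

/-- The positive roots are in convex order. -/
theorem gam_btw {k l : I} (hkl : k ≠ l) {i r j : ℕ} (hir : i < r) (hrj : r < j) (hj : j < M k l) :
    ∃ e c d : ℤ, 0 < e ∧ 0 < c ∧ 0 < d ∧
      e • gam cs h r k l = c • gam cs h i k l + d • gam cs h j k l :=
  ⟨_, _, _, gam_dt_pos cs h hkl (hir.trans hrj) hj, gam_dt_pos cs h hkl hrj hj,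
    gam_dt_pos cs h hkl hir (by omega),
    dt_cramer cs h hkl (gam_rootJ cs h i k l) (gam_rootJ cs h r k l) (gam_rootJ cs h j k l)⟩

theorem gam_last {k l : I} (hkl : k ≠ l) {m : ℕ} (hm : M k l = m + 1) :
    gam cs h m k l = sr l := by
  have hm' : M l k = m + 1 := by rw [M.symmetric, hm]
  have h0 : 0 ≤ gam cs h m k l := gam_nonneg cs h hkl (by omega)
  by_contra hne
  have h1 := ((gam_rootJ cs h m k l).isRoot cs h).simple_nonneg h0 l hne
  rw [← gam_succ] at h1
  -- `gam (m + 1) l k = - gam m k l`
  have h2 : gam cs h (m + 1) l k = - gam cs h m k l := by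
    have hbr := RD.braid_W cs k l
    rw [hm] at hbr
    rw [gam_eq, gam_eq cs h m]
    by_cases he : Even m
    · have he' : ¬ Even (m + 1) := by simpa [Nat.even_add_one] using he
      rw [if_pos he, if_neg he', hbr, ralt_succ, rep_mul_apply, rep_simple_sr, map_neg]
    · have he' : Even (m + 1) := by simpa [Nat.even_add_one] using he
      rw [if_neg he, if_pos he', ← hbr, ralt_succ, rep_mul_apply, rep_simple_sr, map_neg]
  rw [h2] at h1
  exact ((gam_rootJ cs h m k l).isRoot cs h).not_pos_neg h0 (neg_nonneg.1 h1)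

/-- Every positive root of the subsystem has a position. -/
theorem exists_gam [Finite W] {k l : I} {x : I → ℤ} (hx : RootJ cs h k l x) (h0 : 0 ≤ x) :
    ∃ r < M k l, x = gam cs h r k l ∨ x = gam cs h r l k := by
  have key : ∀ i j : I, ∀ w ∈ Cfsg.Agent.Tits.Core.WJ cs {i, j}, 0 ≤ rep cs h w (sr i) →
      ∃ r < M i j, rep cs h w (sr i) = gam cs h r i j ∨ rep cs h w (sr i) = gam cs h r j i := by
    intro i j w hw hpos
    have h1 : cs.length w < cs.length (w * cs.simple i) := (lt_iff' cs h w i).2 hpos
    have h2 : Cfsg.Agent.Tits.Exchange.nn cs w (cs.simple i) = 0 := by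
      have h3 : ¬ Cfsg.Agent.Tits.Exchange.nn cs w (cs.simple i) = 1 := by
        rw [Cfsg.Agent.Tits.Exchange.nn_eq_one_iff cs (cs.isReflection_simple i)]
        omega
      have : ∀ a : ZMod 2, a ≠ 1 → a = 0 := by decide
      exact this _ h3
    obtain ⟨r, hr, -, rfl⟩ := RD.rank_two hw h2
    refine ⟨r, hr, ?_⟩
    by_cases he : Even r
    · left; rw [gam_eq, if_pos he]
    · right; rw [gam_eq, if_neg he]
  obtain ⟨w, hw, i, hi, rfl⟩ := hx
  rcases hi with rfl | rfl
  · exact key _ _ w hw h0
  · rw [Set.pair_comm] at hw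
    obtain ⟨r, hr, h1⟩ := key _ _ w hw h0
    rw [M.symmetric] at hr
    exact ⟨r, hr, h1.symm⟩

end Cfsg.Agent.RootAmalgam
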