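import Cfsg.Agent.RootAmalgam.Braid
import Cfsg.Agent.Tits.Exchange

/-!
# Root data from rank two (S1309, piece (3a)): root groups and the positive part

`Real w y`: `y` represents the element `w` of the Weyl group.  The root groups are the conjugates of the
simple root groups; roots are elements of `W × ZMod 2` (a reflection and a sign), with the action `eta`
of `Tits/Exchange`.  Main results: `wd` (a root group depends only on the root), `pos` (a positive root
group lies in `U = ⟨X i⟩`), `U` is a `p`-group if all `X i` are.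
-/

set_option autoImplicit false
set_option linter.unusedSectionVars false

namespace Cfsg.Agent.RootAmalgam.RD

open Cfsg.Agent.Tits.Core Cfsg.Agent.Tits.OppRes Cfsg.Agent.Tits
open scoped commutatorElement

universe u

theorem M_ne_zero {I : Type*} {M : CoxeterMatrix I} {W : Type*} [Group W] (cs : CoxeterSystem M W)
    [Finite I] [Finite W] (i j : I) : M i j ≠ 0 := by
  classical
  have := Fintype.ofFinite I
  have h := LieRecognition.CoxForm.orderOf_eq cs i j
  rw [← h]
  exact (orderOf_pos _).ne'

variable {Y : Type u} [Group Y] {I : Type*} {M : CoxeterMatrix I} (c : RD M Y) [Nontrivial I]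
variable {W : Type*} [Group W] (cs : CoxeterSystem M W) [Finite I] [Finite W]

/-- The homomorphism from the Coxeter group to `N(T) / T`. -/
noncomputable def phi : W →* c.Quo := cs.lift ⟨c.qn, c.isLiftable (M_ne_zero cs)⟩

theorem phi_simple (i : I) : c.phi cs (cs.simple i) = c.qn i :=
  cs.lift_apply_simple (c.isLiftable (M_ne_zero cs)) i

/-- `y` represents `w`. -/
def Real (w : W) (y : Y) : Prop := ∃ h : y ∈ c.NT, c.phi cs w = c.proj ⟨y, h⟩

variable {c cs}

theorem real_one_iff {y : Y} : c.Real cs 1 y ↔ y ∈ c.T := by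
  constructor
  · rintro ⟨h, h1⟩
    rw [map_one, eq_comm, proj_eq_one_iff] at h1
    exact h1
  · intro h
    exact ⟨c.T_le_NT h, by rw [map_one, eq_comm, proj_eq_one_iff]; exact h⟩

theorem Real.mul {w v : W} {y z : Y} (hy : c.Real cs w y) (hz : c.Real cs v z) :
    c.Real cs (w * v) (y * z) := by
  obtain ⟨h1, h2⟩ := hy
  obtain ⟨h3, h4⟩ := hz
  exact ⟨mul_mem h1 h3, by rw [map_mul, h2, h4, ← map_mul]; rfl⟩

theorem Real.inv {w : W} {y : Y} (hy : c.Real cs w y) : c.Real cs w⁻¹ y⁻¹ := by
  obtain ⟨h1, h2⟩ := hy
  exact ⟨inv_mem h1, by rw [map_inv, h2, ← map_inv]; rfl⟩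

theorem Real.inv_mul_mem {w : W} {y z : Y} (hy : c.Real cs w y) (hz : c.Real cs w z) :
    y⁻¹ * z ∈ c.T := by
  have := hy.inv.mul hz
  rwa [inv_mul_cancel, real_one_iff] at this

theorem real_of_mu {i : I} {p : Y} (hp : c.IsMu i p) : c.Real cs (cs.simple i) p := by
  refine ⟨c.mem_NT_of_mu hp, ?_⟩
  rw [phi_simple, qn_eq, proj_eq_iff]
  exact (c.n_mu i).inv_mul_mem hp

theorem real_n (i : I) : c.Real cs (cs.simple i) (c.n i) := real_of_mu (c.n_mu i)

variable (c) in
theorem exists_real (w : W) : ∃ y, c.Real cs w y := by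
  induction w using cs.simple_induction_right with
  | one => exact ⟨1, real_one_iff.2 (one_mem _)⟩
  | mul_simple_right w i ih =>
    obtain ⟨y, hy⟩ := ih
    exact ⟨_, hy.mul (real_n i)⟩

theorem real_ralt (i j : I) (r : ℕ) :
    c.Real cs (ralt (cs.simple i) (cs.simple j) r) (ralt (c.n i) (c.n j) r) := by
  induction r generalizing i j with
  | zero => exact real_one_iff.2 (one_mem _)
  | succ r ih => exact (ih j i).mul (real_n j)

/-- Conjugation by representatives of the same element. -/
theorem Real.onto {w : W} {y z : Y} (hy : c.Real cs w y) (hz : c.Real cs w z) {i : I}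
    {A : Subgroup Y} (h : Onto y (c.X i) A) : Onto z (c.X i) A := by
  have h1 := h.mul ((mem_T.1 (hy.inv_mul_mem hz)) i).1
  have e : y * (y⁻¹ * z) = z := by group
  rwa [e] at h1

theorem Real.onto_n {w : W} {y z : Y} (hy : c.Real cs w y) (hz : c.Real cs w z) {i : I}
    {A : Subgroup Y} (h : Onto y (c.Xn i) A) : Onto z (c.Xn i) A := by
  have h1 := h.mul ((mem_T.1 (hy.inv_mul_mem hz)) i).2
  have e : y * (y⁻¹ * z) = z := by group
  rwa [e] at h1

/-! ### Rank two -/

omit [Nontrivial I] in
theorem exists_ralt {i j : I} {a : W} (ha : a ∈ WJ cs {i, j}) :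
    ∃ r, cs.length a = r ∧ (a = ralt (cs.simple i) (cs.simple j) r ∨
      a = ralt (cs.simple j) (cs.simple i) r) := by
  have F : Cox cs := inferInstance
  induction hn : cs.length a generalizing a with
  | zero =>
    refine ⟨0, rfl, Or.inl ?_⟩
    rw [ralt_zero]
    exact cs.length_eq_zero_iff.1 hn
  | succ r ih =>
    refine ⟨r + 1, rfl, ?_⟩
    have hne : a ≠ 1 := by
      rintro rfl
      rw [cs.length_one] at hn
      omega
    obtain ⟨k, hk, hlt⟩ := F.exists_descent ha hne
    have hlen : cs.length (a * cs.simple k) = r := by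
      rcases cs.length_mul_simple a k with h | h <;> omega
    obtain ⟨r', hr', h⟩ := ih (mul_mem ha (simple_mem_WJ hk)) hlen
    subst hr'
    have hak : a = (a * cs.simple k) * cs.simple k := by
      rw [mul_assoc, cs.simple_mul_simple_self, mul_one]
    -- the last letter of `a s_k` is not `k`
    have hlast : ∀ (x y : I) (q : ℕ), q = r → a * cs.simple k = ralt (cs.simple x) (cs.simple y) q →
        y = k → q = 0 := by
      rintro x y q hq h1 rfl
      by_contra hq0
      obtain ⟨q', rfl⟩ := Nat.exists_eq_succ_of_ne_zero hq0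
      rw [Nat.succ_eq_add_one, ralt_succ] at h1
      have h2 : a = ralt (cs.simple y) (cs.simple x) q' := mul_right_cancel h1
      have h3 : ∀ (x y : I) (q : ℕ), cs.length (ralt (cs.simple x) (cs.simple y) q) ≤ q := by
        intro x y q
        induction q generalizing x y with
        | zero => rw [ralt_zero, cs.length_one]
        | succ q ih =>
          rw [ralt_succ]
          have := cs.length_mul_le (ralt (cs.simple y) (cs.simple x) q) (cs.simple y)
          have := ih y x
          rw [cs.length_simple] at *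
          omega
      have := h3 y x q'
      rw [← h2] at this
      omega
    rcases hk with hk | hk
    · subst hk
      right
      rcases h with h | h
      · rw [hak, h, ralt_succ]
      · have := hlast _ _ _ rfl h rfl
        rw [this] at h ⊢
        rw [hak, h, ralt_succ, ralt_zero, ralt_zero]
    · rw [Set.mem_singleton_iff] at hk
      subst hk
      left
      rcases h with h | h
      · have := hlast _ _ _ rfl h rfl
        rw [this] at h ⊢
        rw [hak, h, ralt_succ, ralt_zero, ralt_zero]
      · rw [hak, h, ralt_succ]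

omit [Nontrivial I] [Finite I] [Finite W] in
theorem length_ralt_le (cs : CoxeterSystem M W) (i j : I) (r : ℕ) :
    cs.length (ralt (cs.simple i) (cs.simple j) r) ≤ r := by
  induction r generalizing i j with
  | zero => rw [ralt_zero, cs.length_one]
  | succ r ih =>
    rw [ralt_succ]
    have h1 := cs.length_mul_le (ralt (cs.simple j) (cs.simple i) r) (cs.simple j)
    have h2 := ih j i
    rw [cs.length_simple] at h1
    omega

omit [Nontrivial I] [Finite I] [Finite W] in
theorem braid_W (cs : CoxeterSystem M W) (i j : I) :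
    ralt (cs.simple i) (cs.simple j) (M i j) = ralt (cs.simple j) (cs.simple i) (M i j) := by
  have h := mul_pow_eq (cs.simple i) (cs.simple j) (cs.simple_mul_simple_self i)
    (cs.simple_mul_simple_self j) (M i j)
  rw [cs.simple_mul_simple_pow i j] at h
  exact (inv_mul_eq_one.1 h.symm).symm

omit [Nontrivial I] [Finite I] [Finite W] in
theorem ralt_add {H : Type*} [Group H] (a b : H) (r m : ℕ) :
    ralt a b (r + m) = ralt a b r * ralt a b m ∨ ralt a b (r + m) = ralt b a r * ralt a b m := by
  induction m generalizing a b with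
  | zero => left; rw [ralt_zero, mul_one, add_zero]
  | succ m ih =>
    rw [← add_assoc, ralt_succ, ralt_succ]
    rcases ih b a with h | h
    · right; rw [h, mul_assoc]
    · left; rw [h, mul_assoc]

omit [Nontrivial I] in
/-- The elements `a` of `W_{ij}` with `l (a s_i) > l a`. -/
theorem rank_two {i j : I} {a : W} (ha : a ∈ WJ cs {i, j})
    (h0 : Exchange.nn cs a (cs.simple i) = 0) :
    ∃ r, r < M i j ∧ cs.length a = r ∧ a = ralt (cs.simple i) (cs.simple j) r := by
  have hlt : ¬ cs.length (a * cs.simple i) < cs.length a := by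
    rw [← Exchange.nn_eq_one_iff cs (cs.isReflection_simple i), h0]
    exact zero_ne_one
  obtain ⟨r, hr, h⟩ := exists_ralt ha
  have h' : a = ralt (cs.simple i) (cs.simple j) r := by
    rcases h with h | h
    · exact h
    · rcases Nat.eq_zero_or_pos r with rfl | hpos
      · rw [h, ralt_zero, ralt_zero]
      · exfalso
        obtain ⟨q, rfl⟩ := Nat.exists_eq_succ_of_ne_zero hpos.ne'
        apply hlt
        rw [hr, h, Nat.succ_eq_add_one, ralt_succ, mul_assoc, cs.simple_mul_simple_self, mul_one]
        exact lt_of_le_of_lt (length_ralt_le cs i j q) (Nat.lt_succ_self q)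
  refine ⟨r, ?_, hr, h'⟩
  by_contra hge
  obtain ⟨q, rfl⟩ := Nat.exists_eq_add_of_le' (not_lt.1 hge)
  obtain ⟨m', hm'⟩ := Nat.exists_eq_succ_of_ne_zero (M_ne_zero cs i j)
  have key : ∀ x y : I, a = ralt (cs.simple x) (cs.simple y) q *
      ralt (cs.simple i) (cs.simple j) (M i j) → False := by
    intro x y h1
    rw [braid_W, hm', Nat.succ_eq_add_one, ralt_succ, ← mul_assoc] at h1
    apply hlt
    rw [hr, h1, mul_assoc, cs.simple_mul_simple_self, mul_one]
    have h2 := cs.length_mul_le (ralt (cs.simple x) (cs.simple y) q)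
      (ralt (cs.simple i) (cs.simple j) m')
    have h3 := length_ralt_le cs x y q
    have h4 := length_ralt_le cs i j m'
    omega
  rcases ralt_add (cs.simple i) (cs.simple j) q (M i j) with h1 | h1
  · exact key i j (h'.trans h1)
  · exact key j i (h'.trans h1)

theorem onto_ralt {i j : I} (hij : i ≠ j) (r : ℕ) {y : Y}
    (hy : c.Real cs (ralt (cs.simple i) (cs.simple j) r) y) :
    Onto y (c.X i) (c.Z i j (if Even r then 1 + r else M i j - r)) := by
  refine (real_ralt i j r).onto hy ?_
  have h := (ralt_maps hij (c.n_mu i) (c.n_mu j) r).1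
  rw [← c.z_one i j hij]
  refine h.onto ?_
  by_cases hr : Even r
  · rw [if_pos hr, if_pos hr]
  · rw [if_neg hr, if_neg hr]; ring

theorem rank_two_le (gen : ∀ i j, i ≠ j → ∀ k : ℤ, 1 ≤ k → k ≤ M i j → c.Z i j k ≤ c.X i ⊔ c.X j)
    {i j : I} (hij : i ≠ j) {a : W} (ha : a ∈ WJ cs {i, j})
    (h0 : Exchange.nn cs a (cs.simple i) = 0) {y : Y} (hy : c.Real cs a y) :
    ∀ x ∈ c.X i, y * x * y⁻¹ ∈ c.X i ⊔ c.X j := by
  obtain ⟨r, hr, _, rfl⟩ := rank_two ha h0
  intro x hx
  have h1 := (onto_ralt hij r hy).mem hx
  refine gen i j hij _ ?_ ?_ h1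
  · split_ifs <;> omega
  · split_ifs <;> omega

/-- Well-definedness in rank two. -/
theorem rank_two_wd {i j k : I} (hij : i ≠ j) {a : W} (ha : a ∈ WJ cs {i, j})
    (h0 : Exchange.nn cs a (cs.simple i) = 0) (hk : a * cs.simple i * a⁻¹ = cs.simple k)
    (hkk : k = i ∨ k = j) {y : Y} (hy : c.Real cs a y) : Onto y (c.X i) (c.X k) := by
  have F : Cox cs := inferInstance
  have hlt : ¬ cs.length (a * cs.simple i) < cs.length a := by
    rw [← Exchange.nn_eq_one_iff cs (cs.isReflection_simple i), h0]
    exact zero_ne_one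
  obtain ⟨r, hr, hlen, rfl⟩ := rank_two ha h0
  have h1 := onto_ralt hij r hy
  have hmul : ralt (cs.simple i) (cs.simple j) r * cs.simple i =
      cs.simple k * ralt (cs.simple i) (cs.simple j) r := by
    rw [← hk]; group
  rcases Nat.eq_zero_or_pos r with rfl | hpos
  · have h2 : cs.simple i = cs.simple k := by
      rw [ralt_zero, one_mul, mul_one] at hmul
      exact hmul
    rw [← F.inj h2]
    rw [if_pos (by simp)] at h1
    have e : c.Z i j (1 + ((0 : ℕ) : ℤ)) = c.X i := by
      rw [← c.z_one i j hij]; simp
    rwa [e] at h1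
  · rw [← ralt_succ] at hmul
    by_cases hk' : k = (if Even r then j else i)
    · have h3 : cs.simple k * ralt (cs.simple i) (cs.simple j) r =
          ralt (cs.simple i) (cs.simple j) (r + 1) := by
        rw [ralt_succ', hk']
        by_cases he : Even r
        · rw [if_pos he, if_pos he]
        · rw [if_neg he, if_neg he]
      rw [h3] at hmul
      have h4 := mul_pow_eq (cs.simple i) (cs.simple j) (cs.simple_mul_simple_self i)
        (cs.simple_mul_simple_self j) (r + 1)
      rw [hmul, inv_mul_cancel] at h4
      have h5 : orderOf (cs.simple i * cs.simple j) = M i j := by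
        classical
        have := Fintype.ofFinite I
        exact LieRecognition.CoxForm.orderOf_eq cs i j
      have h6 := orderOf_dvd_of_pow_eq_one h4
      rw [h5] at h6
      have h7 := Nat.le_of_dvd (Nat.succ_pos r) h6
      have h8 : M i j = r + 1 := by omega
      rw [hk']
      by_cases he : Even r
      · rw [if_pos he] at h1 ⊢
        have e : c.Z i j (1 + (r : ℤ)) = c.X j := by
          rw [← c.z_m i j hij, h8]
          congr 1
          push_cast; ring
        rwa [e] at h1
      · rw [if_neg he] at h1 ⊢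
        have e : c.Z i j ((M i j : ℤ) - (r : ℤ)) = c.X i := by
          rw [← c.z_one i j hij, h8]
          congr 1
          push_cast; ring
        rwa [e] at h1
    · exfalso
      obtain ⟨q, rfl⟩ := Nat.exists_eq_succ_of_ne_zero hpos.ne'
      rw [Nat.succ_eq_add_one] at *
      have hk2 : k = (if Even q then j else i) := by
        by_cases he : Even q
        · have he' : ¬ Even (q + 1) := by simpa [Nat.even_add_one] using he
          rw [if_neg he'] at hk'
          rw [if_pos he]
          tauto
        · have he' : Even (q + 1) := by simpa [Nat.even_add_one] using he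
          rw [if_pos he'] at hk'
          rw [if_neg he]
          tauto
      have h3 : cs.simple k * ralt (cs.simple i) (cs.simple j) (q + 1) =
          ralt (cs.simple i) (cs.simple j) q := by
        rw [ralt_succ', hk2]
        by_cases he : Even q
        · rw [if_pos he, if_pos he, ← mul_assoc, cs.simple_mul_simple_self, one_mul]
        · rw [if_neg he, if_neg he, ← mul_assoc, cs.simple_mul_simple_self, one_mul]
      rw [h3] at hmul
      apply hlt
      rw [← ralt_succ, hmul, hlen]
      exact lt_of_le_of_lt (length_ralt_le cs i j q) (Nat.lt_succ_self q)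

/-- The decomposition `w = b a` used in all inductions. -/
theorem decomp {w : W} {i : I} (hw : w ≠ 1) (h0 : Exchange.nn cs w (cs.simple i) = 0) :
    ∃ j, i ≠ j ∧ ∃ b a, w = b * a ∧ a ∈ WJ cs {i, j} ∧ cs.length b < cs.length w ∧
      (∀ t, cs.IsReflection t → t ∈ WJ cs {i, j} → Exchange.nn cs b t = 0) ∧
      Exchange.nn cs a (cs.simple i) = 0 ∧ Exchange.IsMinR cs {i, j} b := by
  have F : Cox cs := inferInstance
  obtain ⟨j, hj⟩ := cs.exists_rightDescent_of_ne_one hw
  have hj1 : Exchange.nn cs w (cs.simple j) = 1 :=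
    (Exchange.nn_eq_one_iff cs (cs.isReflection_simple j)).2 hj
  have hij : i ≠ j := by
    rintro rfl
    rw [h0] at hj1
    exact zero_ne_one hj1
  obtain ⟨b, hb, a, ha, hba⟩ := Exchange.exists_isMinR cs {i, j} w
  have hbt : ∀ t, cs.IsReflection t → t ∈ WJ cs {i, j} → Exchange.nn cs b t = 0 := by
    intro t ht htJ
    have h1 : ¬ Exchange.nn cs b t = 1 := by
      rw [Exchange.nn_eq_one_iff cs ht, hb t htJ]
      omega
    have : ∀ a : ZMod 2, a ≠ 1 → a = 0 := by decide
    exact this _ h1
  have hconj : ∀ k, k ∈ ({i, j} : Set I) →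
      Exchange.nn cs w (cs.simple k) = Exchange.nn cs a (cs.simple k) := by
    intro k hk
    rw [hba, Exchange.nn_mul, hbt (a * cs.simple k * a⁻¹) ?_ ?_, add_zero]
    · exact (cs.isReflection_conj_iff a _).2 (cs.isReflection_simple k)
    · exact mul_mem (mul_mem ha (simple_mem_WJ hk)) (inv_mem ha)
  refine ⟨j, hij, b, a, hba, ha, ?_, hbt, ?_, hb⟩
  · have h1 : a ≠ 1 := by
      rintro rfl
      have := hconj j (by simp)
      rw [hj1, Exchange.nn_one] at this
      exact one_ne_zero this
    have h2 : cs.length a ≠ 0 := fun h => h1 (cs.length_eq_zero_iff.1 h)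
    rw [hba, hb a ha]
    omega
  · rw [← hconj i (by simp)]
    exact h0

/-- **Well-definedness of the root groups.** -/
theorem wd {u : W} {i k : I} (h : u * cs.simple i * u⁻¹ = cs.simple k)
    (h0 : Exchange.nn cs u (cs.simple i) = 0) {y : Y} (hy : c.Real cs u y) :
    Onto y (c.X i) (c.X k) := by
  have F : Cox cs := inferInstance
  induction hn : cs.length u using Nat.strong_induction_on generalizing u i y with
  | _ N ih =>
    by_cases hu : u = 1
    · subst hu
      have h1 : cs.simple i = cs.simple k := by simpa using h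
      rw [← F.inj h1]
      exact ((real_one_iff.1 hy) i).1
    obtain ⟨j, hij, b, a, rfl, ha, hlt, hbt, ha0, hb⟩ := decomp hu h0
    obtain ⟨z, hz⟩ := c.exists_real (cs := cs) a
    have hcJ : a * cs.simple i * a⁻¹ ∈ WJ cs {i, j} :=
      mul_mem (mul_mem ha (simple_mem_WJ (by simp))) (inv_mem ha)
    have hcr : cs.IsReflection (a * cs.simple i * a⁻¹) :=
      (cs.isReflection_conj_iff a _).2 (cs.isReflection_simple i)
    have hbc : b * (a * cs.simple i * a⁻¹) = cs.simple k * b := by
      rw [← h]; group
    have hl := hb _ hcJ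
    rw [hbc] at hl
    have hl2 := cs.length_mul_le (cs.simple k) b
    rw [cs.length_simple] at hl2
    have hl3 : cs.length (a * cs.simple i * a⁻¹) ≠ 0 := by
      intro h1
      have h2 := cs.length_eq_zero_iff.1 h1
      rw [mul_inv_eq_one, mul_eq_left] at h2
      have h3 := congrArg cs.length h2
      rw [cs.length_simple, cs.length_one] at h3
      omega
    have hl4 : cs.length (a * cs.simple i * a⁻¹) = 1 := by omega
    obtain ⟨q, hq⟩ := cs.length_eq_one_iff.1 hl4
    rw [hq] at hcJ
    have hq2 : q = i ∨ q = j := by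
      have h1 : cs.length (cs.simple q * cs.simple q) < cs.length (cs.simple q) := by
        rw [cs.simple_mul_simple_self, cs.length_one, cs.length_simple]
        exact Nat.one_pos
      have := F.descent_mem {i, j} _ hcJ q h1
      simpa using this
    have h2 := rank_two_wd hij ha ha0 hq hq2 hz
    have h3 : c.Real cs b (y * z⁻¹) := by
      have := hy.mul hz.inv
      rwa [mul_inv_cancel_right] at this
    have h4 : b * cs.simple q * b⁻¹ = cs.simple k := by
      rw [← hq, ← h]; group
    have h5 := ih (cs.length b) (by omega) h4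
      (hbt _ (cs.isReflection_simple q) hcJ) h3 rfl
    have h6 := h5.mul h2
    rwa [inv_mul_cancel_right] at h6

variable (c) in
/-- The positive part. -/
def U : Subgroup Y := ⨆ i, c.X i

theorem X_le_U (i : I) : c.X i ≤ c.U := le_iSup c.X i

/-- **Positivity.** -/
theorem pos (gen : ∀ i j, i ≠ j → ∀ k : ℤ, 1 ≤ k → k ≤ M i j → c.Z i j k ≤ c.X i ⊔ c.X j)
    {w : W} {i : I} (h0 : Exchange.nn cs w (cs.simple i) = 0) {y : Y}
    (hy : c.Real cs w y) : ∀ x ∈ c.X i, y * x * y⁻¹ ∈ c.U := by
  induction hn : cs.length w using Nat.strong_induction_on generalizing w i y with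
  | _ N ih =>
    by_cases hw : w = 1
    · subst hw
      intro x hx
      exact X_le_U i (((real_one_iff.1 hy) i).1.mem hx)
    obtain ⟨j, hij, b, a, rfl, ha, hlt, hbt, ha0, hb⟩ := decomp hw h0
    obtain ⟨z, hz⟩ := c.exists_real (cs := cs) a
    have h3 : c.Real cs b (y * z⁻¹) := by
      have := hy.mul hz.inv
      rwa [mul_inv_cancel_right] at this
    have h4 : c.X i ⊔ c.X j ≤ c.U.comap (MulAut.conj (y * z⁻¹)).toMonoidHom := by
      refine sup_le ?_ ?_
      · intro x hx
        exact ih _ (by omega) (hbt _ (cs.isReflection_simple i) (simple_mem_WJ (by simp))) h3 rfl x hx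
      · intro x hx
        exact ih _ (by omega) (hbt _ (cs.isReflection_simple j) (simple_mem_WJ (by simp))) h3 rfl x hx
    intro x hx
    have h5 := h4 (rank_two_le gen hij ha ha0 hz x hx)
    have h6 : (y * z⁻¹) * (z * x * z⁻¹) * (y * z⁻¹)⁻¹ ∈ c.U := h5
    have e : (y * z⁻¹) * (z * x * z⁻¹) * (y * z⁻¹)⁻¹ = y * x * y⁻¹ := by group
    rwa [e] at h6

end Cfsg.Agent.RootAmalgam.RD
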